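import Cfsg.Agent.Mrg.Omega.EK3.Q.Split
import Cfsg.Agent.Mrg.Omega.OM.FourF.OneF
import Cfsg.Agent.Mrg.Omega.OM.SWQ.CaseFour


/-!
# (4F-K), `q = 4`, `k ≥ 2`, every stage: `hp`

`T* = S ⊓ ⨅ N(W l)`, `C_{Z l}(T*) = ⟨z l⟩` of order 2, `D* = ⨅ C_G(z l)`.  If `D*` does not normalise some `Z i`, then
for every `i` some `f ∈ D*` normalises `W i` and not `Z i`: `hp`.

* `syl_TStar` : `T*` is a Sylow 2-subgroup of `D*`; `exists_minpar`; `hp_neg` (stage `-1`), `hp_lev` (stage `n ≥ 0`).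
-/

set_option autoImplicit false
set_option linter.unusedSectionVars false

namespace Cfsg.Agent.Omega.EK3.Q

open Subgroup Cfsg Cfsg.Agent.ZN.ChoiceBase
open Cfsg.Agent.ZN (jj zj bau zc zl o2)
open Cfsg.Agent.ZN.ChoiceSit (Syl exists_syl syl_conj le_o2 o2_le_syl isPGroup_o2 le_normalizer_o2)
open Cfsg.Agent.MinSimple.MinParabolic (IsMinPar)
open Cfsg.Agent.MinSimple.VModule (oddGen oddGen_le)
open Cfsg.Agent.Omega.NO3S (HypJ)
open Cfsg.Agent.Omega.NO3S.OneLine (NatC)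
open Cfsg.Agent.Omega.FrameFF (cv)
open Cfsg.Agent.Omega.NO3S.EThree.Frame
open Cfsg.Agent.Omega.Node.MultiOf
open Cfsg.Agent.Omega.OM.Lev.Nat
open Cfsg.Agent.Omega.OM.SwapL (BL ZL Phi Pair)
open Cfsg.Agent.Omega.TC.OfMul (BlkS)

universe u

variable {G : Type u} [Group G] [Finite G] {S : Sylow 2 G} {P K B ZJ : Subgroup G} {k : ℕ}
  {L W Z C : Fin k → Subgroup G} {q : ℕ}

/-- `D* = ⨅ C_G(z l)` -/
theorem iInf_cent_eq (z : Fin k → G) : (⨅ l, centralizer ({z l} : Set G)) =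
    centralizer ((⨆ l, zpowers (z l) : Subgroup G) : Set G) := by
  apply le_antisymm
  · rw [le_centralizer_iff]
    refine iSup_le fun l => ?_
    rw [zpowers_le, mem_centralizer_iff]
    intro x hx
    exact mem_centralizer_singleton_iff.1 ((mem_iInf.1 hx) l)
  · refine le_iInf fun l => centralizer_le ?_
    rw [Set.singleton_subset_iff]
    exact (le_iSup (fun l => zpowers (z l)) l) (mem_zpowers _)

theorem mem_DD {z : Fin k → G} {x : G} : x ∈ (⨅ l, centralizer ({z l} : Set G)) ↔ ∀ l, x * z l = z l * x := by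
  rw [mem_iInf]
  exact forall_congr' fun l => mem_centralizer_singleton_iff

section hz

variable (h : Bg S P B ZJ L W Z C q) {z : Fin k → G} (hz : HZ S W Z z)
include h hz

theorem TStar_le_DD : TStar S W ≤ ⨅ l, centralizer ({z l} : Set G) := fun t ht => mem_DD.2 fun l =>
  ((hz l).2.2 (z l) (hz l).1).2 (Or.inr rfl) t ht

/-- `T*` is a Sylow 2-subgroup of `D*`. -/
theorem syl_TStar : Syl (TStar S W) (⨅ l, centralizer ({z l} : Set G)) := by
  have hT2 : IsPGroup 2 (TStar S W) := S.isPGroup'.to_le inf_le_left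
  refine ⟨TStar_le_DD h hz, hT2, fun T hT h2 hle => ?_⟩
  have hBT : B ≤ T := (B_le_TStar h).trans hle
  obtain ⟨n, -, hn⟩ := exists_cj_TS h h2 hBT fun i x hx =>
    fixZ h (h.norm_ZJ (h.le_norm_B h2 hBT hx)) (hz i).1 (hz i).2.1 (mem_DD.1 (hT hx) i)
  exact (Subgroup.eq_of_le_of_card_ge hle (by rw [← card_cj n T]; exact Subgroup.card_le_of_le hn)).symm

/-- `S` permutes the `z l`. -/
theorem cj_z {s : G} (hs : s ∈ (S : Subgroup G)) {i j : Fin k} (e : cj s (Z i) = Z j) : s * z i * s⁻¹ = z j := by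
  have h1 : s * z i * s⁻¹ ∈ Z j := by rw [← e]; exact ⟨z i, (hz i).1, rfl⟩
  have hc : ∀ t ∈ (S : Subgroup G) ⊓ ⨅ l, normalizer (W l : Set G), t * (s * z i * s⁻¹) = s * z i * s⁻¹ * t := by
    intro t ht
    have ht' : s⁻¹ * t * s ∈ TStar S W := by
      refine (mem_TStar h).2 ⟨mul_mem (mul_mem (inv_mem hs) ht.1) hs, fun l => ?_⟩
      obtain ⟨m, hm, -⟩ := (h.nrm s (h.S_norm_B hs)).2 l
      have h3 : Z l = cj s⁻¹ (Z m) := by rw [← hm, cj_inv_cj]
      rw [h3, ← cj_normalizer, mem_cj, inv_inv]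
      have e1 : s * (s⁻¹ * t * s) * s⁻¹ = t := by group
      rw [e1]
      exact ((mem_TStar h).1 ht).2 m
    have h3 := ((hz i).2.2 (z i) (hz i).1).2 (Or.inr rfl) _ ht'
    have h4 : t * (s * z i * s⁻¹) = s * (s⁻¹ * t * s * z i) * s⁻¹ := by group
    rw [h4, h3]
    group
  rcases ((hz j).2.2 _ h1).1 hc with h2 | h2
  · exfalso
    apply (hz i).2.1
    have e1 : z i = s⁻¹ * (s * z i * s⁻¹) * s := by group
    rw [e1, h2]; group
  · exact h2

/-- from one index to all -/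
theorem hp_all (hex : ∃ i, ∃ f ∈ (⨅ l, centralizer ({z l} : Set G)),
      f ∈ normalizer (W i : Set G) ∧ f ∉ normalizer (Z i : Set G)) (j : Fin k) :
    ∃ f ∈ (⨅ l, centralizer ({z l} : Set G)), f ∈ normalizer (W j : Set G) ∧ f ∉ normalizer (Z j : Set G) := by
  obtain ⟨i, f, hf, hW, hZ⟩ := hex
  obtain ⟨s, hs, e⟩ := h.trans i j
  have eZ := (h.cj_Z_iff hs).2 e
  refine ⟨s * f * s⁻¹, mem_DD.2 fun l => ?_, ?_, fun hc => hZ ?_⟩
  · obtain ⟨m, hm, -⟩ := (h.nrm s⁻¹ (inv_mem (h.S_norm_B hs))).2 l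
    have h1 : cj s (Z m) = Z l := by rw [← hm, cj_cj_inv]
    rw [← cj_z h hz hs h1]
    have h2 := mem_DD.1 hf m
    have e1 : s * f * s⁻¹ * (s * z m * s⁻¹) = s * (f * z m) * s⁻¹ := by group
    rw [e1, h2]
    group
  · rw [← e, ← cj_normalizer]
    exact ⟨f, hW, rfl⟩
  · rw [← eZ, ← cj_normalizer, mem_cj] at hc
    have e1 : s⁻¹ * (s * f * s⁻¹) * s = f := by group
    rwa [e1] at hc

theorem le_ZJ : (⨆ l, zpowers (z l) : Subgroup G) ≤ ZJ := iSup_le fun l => by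
  rw [zpowers_le]; exact h.fr.Z_le l (hz l).1

theorem meets (i : Fin k) : ∃ x ∈ Z i, x ≠ 1 ∧ x ∈ (⨆ l, zpowers (z l) : Subgroup G) :=
  ⟨z i, (hz i).1, (hz i).2.1, (le_iSup (fun l => zpowers (z l)) i) (mem_zpowers _)⟩

end hz

/-- A minimal parabolic of `C_G(Y)` which is not contained in `X`. -/
theorem exists_minpar (h : Bg S P B ZJ L W Z C q) (lb : OM.LevD.LB S K B ZJ)
    (blk : ∀ T : Subgroup G, B ≤ T → BlkS K B T) {Y₀ X T : Subgroup G} (hYJ : Y₀ ≤ ZJ) (hYne : Y₀ ≠ ⊥)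
    (hT : Syl T (centralizer (Y₀ : Set G))) (hBT : B ≤ T)
    (hX : centralizer (Y₀ : Set G) ⊓ normalizer (ZJ : Set G) ≤ X)
    (hb : ∀ L' V' : Subgroup G, FBl B L' V' → L' ≤ centralizer (Y₀ : Set G) → L' ≤ X)
    (hn : ¬ centralizer (Y₀ : Set G) ≤ X) : ∃ R : Subgroup G, IsMinPar T R ∧ R ≤ centralizer (Y₀ : Set G) ∧
      R ≤ centralizer (zc T : Set G) ∧ ¬ R ≤ X := by
  by_contra hcon
  push Not at hcon
  apply hn
  set H : Subgroup G := centralizer (Y₀ : Set G) with hH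
  have hchar : H ⊓ centralizer (o2 H : Set G) ≤ o2 H :=
    OM.Swap.char2_cent h.hyp.ctx.char2 (lb.Bp.to_le (hYJ.trans lb.ZB)) hYne
  have hTB : T ≤ normalizer (B : Set G) := lb.two_le hT.2.1 hBT
  have hTJ : T ≤ normalizer (ZJ : Set G) := hTB.trans h.norm_ZJ
  refine MinSimple.MinParabolic.le_of_forall hT.1 ?_ fun Y hY hYH => ?_
  · rintro x ⟨hx, hxT⟩
    exact hX ⟨hx, (lb.nrm T hT.2.1 (lb.KB.trans hBT)) hxT⟩
  have hTY : Syl T Y := ⟨hY.le, hT.2.1, fun Q hQ h2 hTQ => hT.2.2 Q (hQ.trans hYH) h2 hTQ⟩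
  by_cases hK : K ≤ o2 Y
  · intro x hx
    exact hX ⟨hYH hx, (lb.nrm _ (MinSimple.VModule.o2_isPGroup _) hK)
      (MinSimple.VModule.le_normalizer_o2 Y hx)⟩
  by_cases hZ : Y ≤ centralizer (zc T : Set G)
  · exact hcon Y hY hYH hZ
  · -- a block
    have hcY : Y ⊓ centralizer (o2 Y : Set G) ≤ o2 Y := by
      have h4 : o2 H ≤ o2 Y :=
        le_o2 (isPGroup_o2 H) ((o2_le_syl hT).trans hY.le) (hYH.trans (le_normalizer_o2 H))
      rintro x ⟨hx, hxc⟩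
      exact h4 (hchar ⟨hYH hx, centralizer_le (by exact_mod_cast h4) hxc⟩)
    obtain ⟨L', V', hb', h2, h3⟩ := blk T hBT Y hY hTY hcY hK hZ
    exact h3.trans (sup_le (hb L' V' hb' (h2.trans hYH)) fun x hx => hX ⟨hT.1 hx, hTJ hx⟩)

/-- matching of frames -/
theorem exists_match (h : Bg S P B ZJ L W Z C q)
    (uni : ∀ L' V' : Subgroup G, FBl B L' V' → ∃ i, V' = W i ∧ ∀ z ∈ ZJ, z ∈ C i → ∀ l ∈ L', l * z = z * l)
    {L' W' Z' : Fin k → Subgroup G} {q' : ℕ} (hfb : ∀ i, OM.Uni.FB B (L' i) (W' i) (Z' i) q')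
    (hcard : ∀ i, Nat.card (Z' i) = q') (hinj : ∀ i j, W' i = W' j → i = j) :
    ∃ σ : Equiv.Perm (Fin k), ∀ i, W i = W' (σ i) ∧ Z i = Z' (σ i) := by
  have key : ∀ i, ∃ j, W' i = W j ∧ Z' i = Z j := by
    intro i
    have hb : FBl B (L' i) (W' i) :=
      ⟨⟨_, _, hfb i⟩, (hfb i).toBlock (hcard i) h.bau_two (OM.UniPlus.WC.weakNormal h.wc)⟩
    obtain ⟨j, e, -⟩ := uni _ _ hb
    refine ⟨j, e, ?_⟩
    ext x
    rw [(hfb i).toMd.mem_Z_iff, (h.fr.blk j).toMd.mem_Z_iff, e]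
  choose τ hτ using key
  have hτi : Function.Injective τ := fun i j e => hinj i j (by rw [(hτ i).1, (hτ j).1, e])
  refine ⟨(Equiv.ofBijective τ (Finite.injective_iff_bijective.1 hτi)).symm, fun i => ?_⟩
  set σ := Equiv.ofBijective τ (Finite.injective_iff_bijective.1 hτi) with hσ
  have e : τ (σ.symm i) = i := σ.apply_symm_apply i
  constructor
  · rw [(hτ _).1, e]
  · rw [(hτ _).2, e]

/-- Stage `-1`, one index. -/
theorem hp_neg (h : Mul S P K B ZJ L W Z C 4) (hk : 2 ≤ k) (hJ : ¬ jj (S : Subgroup G) ≤ o2 P)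
    (blk : ∀ T : Subgroup G, B ≤ T → BlkS K B T)
    (uni : ∀ L' V' : Subgroup G, FBl B L' V' → ∃ i, V' = W i ∧ ∀ z ∈ ZJ, z ∈ C i → ∀ l ∈ L', l * z = z * l)
    {z : Fin k → G} (hz : HZ S W Z z) {i : Fin k}
    (hne : ¬ (⨅ l, centralizer ({z l} : Set G)) ≤ normalizer (Z i : Set G)) :
    ∃ f ∈ (⨅ l, centralizer ({z l} : Set G)), f ∈ normalizer (W i : Set G) ∧ f ∉ normalizer (Z i : Set G) := by
  have hu := uni0_of h.bg uni
  have hD := iInf_cent_eq z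
  -- the minimal parabolic
  obtain ⟨R, hR, hRD, hRz, hRn⟩ : ∃ R : Subgroup G, IsMinPar (TStar S W) R ∧ R ≤ (⨅ l, centralizer ({z l} : Set G)) ∧
      R ≤ centralizer (zc (TStar S W) : Set G) ∧ ¬ R ≤ normalizer (Z i : Set G) := by
    rw [hD] at hne ⊢
    refine exists_minpar h.bg h.lb blk (le_ZJ h.bg hz) ?_ (hD ▸ syl_TStar h.bg hz) (B_le_TStar h.bg) ?_ ?_ hne
    · intro e
      obtain ⟨x, -, h1, h2⟩ := meets h.bg hz i
      rw [e, mem_bot] at h2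
      exact h1 h2
    · rintro x ⟨hx, hxJ⟩
      rw [← hD] at hx
      exact fixZ h.bg hxJ (hz i).1 (hz i).2.1 (mem_DD.1 hx i)
    · intro L' V' hb hL'
      obtain ⟨l, hno, -⟩ := hu L' V' hb
      obtain ⟨x, hx, hne⟩ := hno (z l) (hz l).1 (hz l).2.1
      rw [← hD] at hL'
      exact absurd (mem_DD.1 (hL' hx) l) hne
  -- the frame with coordinates
  have hBZ : B = bau (S : Subgroup G) ∧ ZJ = zj (S : Subgroup G) := by
    cases h.stg with
    | neg _ => exact ⟨rfl, rfl⟩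
    | lev m _ hm _ => exact absurd ((NO3S.Level.lev_mono (S : Subgroup G) (Nat.zero_le m)).trans hm) hJ
  obtain ⟨rfl, rfl⟩ := hBZ
  obtain ⟨F, _, _, _, hF, ⟨N⟩⟩ := h.nat
  obtain ⟨L', W', Z', C', A', D⟩ := OM.YThm.Plug.exists_dt ⟨h.hyp.toHypN, hJ⟩ hk N.toNatK
  obtain ⟨σ, hσ⟩ := exists_match h.bg uni (fun i => D.line.fr.blk i) D.line.fr.cardZ fun a b e => by
    by_contra hab
    obtain ⟨b', hb', v, hv, hne'⟩ := (D.line.fr.blk a).ne
    apply hne'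
    have h1 : v ∈ W' a ⊓ C' a := mem_inf.2 ⟨hv, D.line.fr.WjC a b hab (e ▸ hv)⟩
    rw [D.line.fr.dir a, mem_bot] at h1
    rw [h1, mul_one, one_mul]
  have hRs : Syl (TStar S W) R := ⟨hR.le, S.isPGroup'.to_le inf_le_left, fun Q hQ h2 hTQ =>
    (syl_TStar h.bg hz).2.2 Q (hQ.trans hRD) h2 hTQ⟩
  have hc : ClaimNeg.CoreN D (TStar S W) R := by
    refine ⟨hF, hRs, B_le_TStar h.bg, inf_le_left, hR, hRz, fun t ht j => ?_, fun j => ?_⟩
    · have h1 := ((mem_TStar h.bg).1 ht).2 (σ.symm j)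
      rw [(hσ _).2, Equiv.apply_symm_apply] at h1
      exact mem_normalizer_iff_cj.1 h1
    · have h1 := hz (σ.symm j)
      have h2 := h1.1
      rw [(hσ _).2, Equiv.apply_symm_apply] at h2
      exact ⟨_, h2, h1.2.1, fun x hx => mem_DD.1 (hRD hx) _⟩
  have h1 : R ≤ normalizer (W i : Set G) := by
    rw [(hσ i).1]
    refine (ClaimNeg.neg_main hc (σ i)).resolve_left fun h2 => hRn ?_
    rwa [(hσ i).2]
  obtain ⟨f, hf, hfn⟩ := SetLike.not_le_iff_exists.1 hRn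
  exact ⟨f, hRD hf, h1 hf, hfn⟩

/-- the claim for one pair at a level -/
theorem lev_main {n : ℕ} {F : Type} [Field F] [Finite F] [CharP F 2]
    {M : NatC F (S : Subgroup G) P (zl (S : Subgroup G) P) (cv (S : Subgroup G) P) k} {L Z A : Fin k → Subgroup G}
    (D : OM.SWQ.DtL S P n M L Z A) {X T Y : Subgroup G} (hp : Pair S P n X T Y) (hTS : T ≤ (S : Subgroup G))
    (hall : ∀ i, i ∈ Phi Z T) (hq : Nat.card F = 4)
    (hD : centralizer (ZL (S : Subgroup G) n : Set G) ≤ X) (hN : normalizer (BL (S : Subgroup G) n : Set G) ≤ X)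
    (i : Fin k) : Y ≤ normalizer (Z i : Set G) ∨ Y ≤ normalizer (Wn M i : Set G) := by
  obtain ⟨z₀, f₀, m⟩ := D.exists_md
  have hZ : ∀ i, ∀ t ∈ T, cj t (Z i) = Z i := fun i t ht => hall i t ht
  obtain ⟨u, hu, hue, huY⟩ := OM.SWQ.CaseFour.exists_u D m hp hTS hZ hq i
  obtain ⟨𝓐, h1⟩ := OM.SWQ.CaseFour.oneF D m hp hTS hZ hq hD hN hu hue huY
  have hfix : o2 Y ≤ centralizer (Z i : Set G) → Y ≤ centralizer (Z i : Set G) := by
    intro hi x hx
    refine mem_centralizer_iff.2 fun z hz => ?_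
    have h3 : z ∈ centralizer (Y : Set G) :=
      hp.fix ⟨D.ln.fr.Z_le i hz, mem_centralizer_iff.2 fun o ho => (mem_centralizer_iff.1 (hi ho) z hz).symm⟩
    exact (mem_centralizer_iff.1 h3 x hx).symm
  rcases h1.main hfix with h2 | h2
  · left
    rw [← OM.Dich.oddGen_sup_syl hp.syl]
    exact sup_le (h2.trans (centralizer_le_normalizer _)) fun t ht => mem_normalizer_iff_cj.2 (hZ i t ht)
  · exact Or.inr h2

/-- Stage `n ≥ 0`, some index. -/
theorem hp_lev (h : Mul S P K B ZJ L W Z C 4) (hk : 2 ≤ k) (hJ : jj (S : Subgroup G) ≤ o2 P)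
    (uni : ∀ L' V' : Subgroup G, FBl B L' V' → ∃ i, V' = W i ∧ ∀ z ∈ ZJ, z ∈ C i → ∀ l ∈ L', l * z = z * l)
    {z : Fin k → G} (hz : HZ S W Z z) {i : Fin k}
    (hne : ¬ (⨅ l, centralizer ({z l} : Set G)) ≤ normalizer (Z i : Set G)) :
    ∃ i, ∃ f ∈ (⨅ l, centralizer ({z l} : Set G)), f ∈ normalizer (W i : Set G) ∧ f ∉ normalizer (Z i : Set G) := by
  have hDD := iInf_cent_eq z
  have hYJ := le_ZJ h.bg hz
  have hYm := meets h.bg hz
  have hMn : ¬ centralizer ((⨆ l, zpowers (z l) : Subgroup G) : Set G) ≤ normalizer (ZJ : Set G) := by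
    intro hle
    apply hne
    rw [hDD]
    intro x hx
    refine fixZ h.bg (hle hx) (hz i).1 (hz i).2.1 ?_
    rw [← hDD] at hx
    exact mem_DD.1 hx i
  have hYne : (⨆ l, zpowers (z l) : Subgroup G) ≠ ⊥ := by
    intro e
    obtain ⟨x, -, h1, h2⟩ := hYm i
    rw [e, mem_bot] at h2
    exact h1 h2
  have hcY : IsPGroup 2 (⨆ l, zpowers (z l) : Subgroup G) := h.lb.Bp.to_le (hYJ.trans h.lb.ZB)
  have hch := OM.Swap.char2_cent h.bg.hyp.ctx.char2 hcY hYne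
  have hBY : B ≤ centralizer ((⨆ l, zpowers (z l) : Subgroup G) : Set G) := by
    rw [le_centralizer_iff]
    exact hYJ.trans (le_centralizer_iff.1 h.lb.Bc)
  have hbg := h.bg
  obtain ⟨n, F, _, _, _, M, L', Z', A', σ, hF, -, rfl, rfl, D, hσ⟩ := OM.SWQ.exists_dtl_mul h hk hJ
  have hW : ∀ i, Wn M (σ i) = W i := by
    intro i
    obtain ⟨j, hj, -⟩ := uni _ _ (⟨⟨_, _, D.bg.fr.blk (σ i)⟩, D.bg.block (σ i)⟩ : FBl _ (L' (σ i)) (Wn M (σ i)))
    have h1 : Z' (σ i) = Z j := by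
      ext x
      rw [(D.bg.fr.blk (σ i)).toMd.mem_Z_iff, (hbg.fr.blk j).toMd.mem_Z_iff, hj]
    rw [hj, ← hbg.Z_inj (by rw [hσ i, h1] : Z i = Z j)]
  have hDN : centralizer (ZL (S : Subgroup G) n : Set G) ≤ normalizer (ZL (S : Subgroup G) n : Set G) :=
    centralizer_le_normalizer _
  have hm' : ∀ i, ∃ x ∈ Z' i, x ≠ 1 ∧ x ∈ (⨆ l, zpowers (z l) : Subgroup G) := by
    intro i
    have h1 := hYm (σ.symm i)
    rwa [hσ, Equiv.apply_symm_apply] at h1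
  obtain ⟨T', F', hp', hle'⟩ := OM.SWQ.exists_pair_in D.ln (D.bmin (by omega) hm') hDN hbg.norm_ZJ hBY hch hMn
  have hT'i : ∀ i, T' ≤ normalizer (Z i : Set G) := fun i x hx => by
    have h1 := hle' (hp'.syl.1 hx)
    rw [← hDD] at h1
    exact fixZ hbg (hbg.norm_ZJ (hbg.le_norm_B hp'.syl.2.1 hp'.BT hx)) (hz i).1 (hz i).2.1 (mem_DD.1 h1 i)
  obtain ⟨n₀, hn₀, hnT⟩ := exists_cj_TS hbg hp'.syl.2.1 hp'.BT hT'i
  have hp := OM.SWQ.pair_cj D.ln hbg.norm_ZJ hp' hn₀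
  have hTN : ∀ t ∈ cj n₀ T', ∀ i, cj t (Z i) = Z i := fun t ht i =>
    mem_normalizer_iff_cj.1 (((mem_TStar hbg).1 (hnT ht)).2 i)
  have hall : ∀ i, i ∈ Phi Z' (cj n₀ T') := by
    intro i t ht
    have h1 := hTN t ht (σ.symm i)
    rwa [hσ, Equiv.apply_symm_apply] at h1
  -- `F ≤ D*`
  have hFD : cj n₀ F' ≤ ⨅ l, centralizer ({z l} : Set G) := by
    intro y hy
    refine mem_DD.2 fun l => ?_
    obtain ⟨j, hj, -⟩ := (hbg.nrm n₀⁻¹ (inv_mem hn₀)).2 l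
    have hj' : cj n₀ (Z j) = Z l := by rw [← hj, cj_cj_inv]
    set w : G := n₀ * z j * n₀⁻¹ with hw
    have hwZ : w ∈ Z l := by rw [← hj']; exact ⟨z j, (hz j).1, rfl⟩
    have hwc : ∀ x ∈ cj n₀ F', x * w = w * x := by
      rintro _ ⟨x, hx, rfl⟩
      have h1 := hle' hx
      rw [← hDD] at h1
      have h2 := mem_DD.1 h1 j
      show n₀ * x * n₀⁻¹ * (n₀ * z j * n₀⁻¹) = n₀ * z j * n₀⁻¹ * (n₀ * x * n₀⁻¹)
      have e1 : n₀ * x * n₀⁻¹ * (n₀ * z j * n₀⁻¹) = n₀ * (x * z j) * n₀⁻¹ := by group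
      rw [e1, h2]
      group
    by_cases hTc : cj n₀ T' ≤ centralizer (Z l : Set G)
    · have h1 : z l ∈ centralizer (cj n₀ F' : Set G) :=
        hp.fix ⟨hbg.fr.Z_le l (hz l).1, mem_centralizer_iff.2 fun o ho =>
          (mem_centralizer_iff.1 (hTc (o2_le_syl hp.syl ho)) (z l) (hz l).1).symm⟩
      exact mem_centralizer_iff.1 h1 y hy
    · -- `|C_{Z l}(T)| = 2`
      have hX : Nat.card ↥(Z l ⊓ centralizer (cj n₀ T' : Set G) : Subgroup G) = 2 := by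
        have h2 : Nat.card ↥(Z l ⊓ centralizer (cj n₀ T' : Set G) : Subgroup G) ∣ 4 := by
          rw [← hbg.fr.cardZ l]
          exact Subgroup.card_dvd_of_le inf_le_left
        have h3 : Nat.card ↥(Z l ⊓ centralizer (cj n₀ T' : Set G) : Subgroup G) ≠ 4 := by
          intro e
          have h4 : Z l ⊓ centralizer (cj n₀ T' : Set G) = Z l :=
            Subgroup.eq_of_le_of_card_ge inf_le_left (by rw [e, hbg.fr.cardZ])
          exact hTc (le_centralizer_iff.1 (inf_eq_left.1 h4))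
        have h5 : Nat.card ↥(Z l ⊓ centralizer (cj n₀ T' : Set G) : Subgroup G) ≠ 1 := by
          intro e
          have h6 : z l ∈ Z l ⊓ centralizer (cj n₀ T' : Set G) :=
            ⟨(hz l).1, mem_centralizer_iff.2 fun t ht => ((hz l).2.2 (z l) (hz l).1).2 (Or.inr rfl) t (hnT ht)⟩
          rw [Subgroup.card_eq_one.1 e, mem_bot] at h6
          exact (hz l).2.1 h6
        have h6 := Nat.le_of_dvd (by norm_num) h2
        have h7 : Nat.card ↥(Z l ⊓ centralizer (cj n₀ T' : Set G) : Subgroup G) ≠ 3 := by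
          intro e
          rw [e] at h2
          omega
        have h8 : 0 < Nat.card ↥(Z l ⊓ centralizer (cj n₀ T' : Set G) : Subgroup G) := Nat.card_pos
        omega
      have hw1 : w ≠ 1 := by
        intro e
        apply (hz j).2.1
        have e1 : z j = n₀⁻¹ * w * n₀ := by rw [hw]; group
        rw [e1, e]; group
      have e2 : z l = w := OM.UniPlus.eq_of_card_two hX
        ⟨(hz l).1, mem_centralizer_iff.2 fun t ht => ((hz l).2.2 (z l) (hz l).1).2 (Or.inr rfl) t (hnT ht)⟩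
        ⟨hwZ, mem_centralizer_iff.2 fun t ht => hwc t (hp.syl.1 ht)⟩ (hz l).2.1 hw1
      rw [e2]
      exact hwc y hy
  -- an index moved by `F`
  obtain ⟨i, hi⟩ : ∃ i, ¬ cj n₀ F' ≤ normalizer (Z i : Set G) := by
    by_contra hcon
    push Not at hcon
    exact hp.nM ((le_iInf hcon).trans (inf_norm_le hbg))
  have h1 : cj n₀ F' ≤ normalizer (W i : Set G) := by
    rw [← hW i]
    refine (lev_main D hp (hnT.trans inf_le_left) hall hF hDN hbg.norm_ZJ (σ i)).resolve_left fun h2 => hi ?_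
    rwa [hσ i]
  obtain ⟨f, hf, hfn⟩ := SetLike.not_le_iff_exists.1 hi
  exact ⟨i, f, hFD hf, h1 hf, hfn⟩

/-- **`hp`.** -/
theorem hp (h : Mul S P K B ZJ L W Z C 4) (hk : 2 ≤ k) (blk : ∀ T : Subgroup G, B ≤ T → BlkS K B T)
    (uni : ∀ L' V' : Subgroup G, FBl B L' V' → ∃ i, V' = W i ∧ ∀ z ∈ ZJ, z ∈ C i → ∀ l ∈ L', l * z = z * l)
    {z : Fin k → G} (hz : HZ S W Z z)
    (hne : ∃ i, ¬ (⨅ l, centralizer ({z l} : Set G)) ≤ normalizer (Z i : Set G)) :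
    ∀ i, ∃ f ∈ (⨅ l, centralizer ({z l} : Set G)),
      f ∈ normalizer (W i : Set G) ∧ f ∉ normalizer (Z i : Set G) := by
  obtain ⟨i, hi⟩ := hne
  refine hp_all h.bg hz ?_
  by_cases hJ : jj (S : Subgroup G) ≤ o2 P
  · exact hp_lev h hk hJ uni hz hi
  · exact ⟨i, hp_neg h hk hJ blk uni hz hi⟩

end Cfsg.Agent.Omega.EK3.Q
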