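import Cfsg.Agent.Mrg.Omega.EK3.Q.TwoU
import Cfsg.Agent.Mrg.Omega.EK3.Q.Split
import Cfsg.Agent.Mrg.Omega.EK3.UFixG
import Cfsg.Agent.Mrg.Omega.KL.Q.Def
import Cfsg.Agent.Mrg.Omega.KL.Q.EndG
import Cfsg.Agent.Mrg.Omega.EK3.FK.OfSplit

-- merged: Cfsg.Agent.Mrg.Omega.EK3.Q.Two
section

/-!
# (E), `k ≥ 3`, `q ≥ 4` (bb #22703, #23133, #23990): the two points (helper176)

Over the frame `FrQ` (helper968): `Y_j = YQ Z j` acts on `N / Zᶜ`, `Zᶜ = Zs Z j = ⟨Z l : l ≠ j⟩`,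
`N = MQ .. i j = ⟨(W i Z_J)^{Y_j}⟩`, with the two points `X = Z_J / Zᶜ`, `Y = W i Zᶜ / Zᶜ`.

* `coset` : `c ∈ Y_j`, `[c, p] ∈ Zᶜ`, `[B, p] = 1 mod Zᶜ` ⟹ `[c, p] ∈ Z₀` if this holds for `c ∈ N(B)`;
* `coset_Z` : `[c, m] ∈ Zᶜ`, `m ∈ Z j` ⟹ `[c, m] = 1`;  `coset_W` : `[c, w] ∈ Zᶜ`, `w ∈ W i` ⟹ `[c, w] ∈ Z i`;
* `stabW` : `c w c⁻¹ ∈ W i`, `w ∈ W i - Z i` ⟹ `c ∈ N(W i)`;
* **`gInQ`** : `KL.Q.PlugGG.GInQ`, from `u1`, `u2`, `nX`, `nY` and the exact group.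
-/

set_option autoImplicit false
set_option maxHeartbeats 400000
set_option linter.unusedSectionVars false
set_option linter.unusedVariables false

namespace Cfsg.Agent.Omega.EK3.Q

open Subgroup Cfsg Cfsg.Agent.ZN.ChoiceBase
open Cfsg.Agent.ZN (jj zj bau zc zl o2)
open Cfsg.Agent.ZN.ChoiceSit (Syl exists_syl syl_conj isPGroup_o2 le_o2 le_normalizer_o2 o2_le_syl syl_not_dvd)
open Cfsg.Agent.Omega
open Cfsg.Agent.Omega.OM Cfsg.Agent.Omega.OM.Uni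
open Cfsg.Agent.Omega.NO3S.EThree.Frame
open Cfsg.Agent.Omega.NO3S.EMany
open Cfsg.Agent.Omega.Node.MultiOf
open Cfsg.Agent.MinSimple.MinParabolic (IsMinPar)
open Cfsg.Agent.Omega.EK3.Two (Zs Z_le_Zs)
open Cfsg.Agent.Omega.KL.Q.PlugGG (mem_nor_of)
open scoped Pointwise

universe u

variable {G : Type u} [Group G] {k : ℕ}

/-- the module `N = ⟨(W i Z_J)^{Y_j}⟩` -/
def MQ (Z W : Fin k → Subgroup G) (ZJ : Subgroup G) (i j : Fin k) : Subgroup G :=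
  NoFF.Basic.V (W i ⊔ ZJ) (YQ Z j)

/-- the point `Y = W i Zᶜ` -/
def PQ (Z W : Fin k → Subgroup G) (i j : Fin k) : Subgroup G := W i ⊔ Zs Z j

theorem mem_sup_Zs {H Zc : Subgroup G} (hc : ∀ a ∈ H, ∀ s ∈ Zc, a * s = s * a) {x : G} (hx : x ∈ H ⊔ Zc) :
    ∃ a ∈ H, ∃ s ∈ Zc, x = a * s :=
  SQ1.Bau.mem_sup_comm (fun a ha s hs => hc a ha s hs) hx

namespace FrQ

variable [Finite G] {S : Sylow 2 G} {P K B ZJ : Subgroup G} {L W Z C : Fin k → Subgroup G} {q : ℕ}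
  (h : FrQ S P K B ZJ L W Z C q)
include h

theorem ZJ_le (j : Fin k) : ZJ ≤ Z j ⊔ Zs Z j := Two.ZJ_le h.bg j

theorem ZJ_le_B : ZJ ≤ B := h.bg.fr.ZJV.trans h.bg.fr.VB

theorem Zs_le_Y (j : Fin k) : Zs Z j ≤ YQ Z j := (h.Zs_le_ZJ j).trans (h.ZJ_le_B.trans (h.B_le_Y j))

theorem W_le_Y (i j : Fin k) : W i ≤ YQ Z j := (h.W_le_B i).trans (h.B_le_Y j)

theorem mem_ZJ' {j : Fin k} {x : G} (hx : x ∈ ZJ) : ∃ m ∈ Z j, ∃ s ∈ Zs Z j, x = m * s :=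
  mem_sup_Zs (fun a ha s hs => YQ_Zs (h.B_le_Y j (h.Z_le_B j ha)) hs) (h.ZJ_le j hx)

theorem mem_PQ {i j : Fin k} {x : G} (hx : x ∈ PQ Z W i j) : ∃ w ∈ W i, ∃ s ∈ Zs Z j, x = w * s :=
  mem_sup_Zs (fun a ha s hs => YQ_Zs (h.W_le_Y i j ha) hs) hx

theorem W_inf_ZJ {i : Fin k} {w : G} (hw : w ∈ W i) (hJ : w ∈ ZJ) : w ∈ Z i :=
  (h.bg.fr.blk i).toMd.mem_Z_iff.2 ⟨hw, ((h.bg.fr.mem_ZJ w).1 hJ).2⟩

theorem Z_inf_Zs {j : Fin k} {m : G} (hm : m ∈ Z j) (hs : m ∈ Zs Z j) : m = 1 := by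
  have hc : m ∈ W j ⊓ C j := ⟨(h.bg.fr.blk j).ZV hm, Two.Zs_le_C h.bg j hs⟩
  rwa [h.bg.fr.dir j, mem_bot] at hc

theorem W_inf_Zs_j {j : Fin k} {m : G} (hm : m ∈ W j) (hs : m ∈ Zs Z j) : m = 1 := by
  have hc : m ∈ W j ⊓ C j := ⟨hm, Two.Zs_le_C h.bg j hs⟩
  rwa [h.bg.fr.dir j, mem_bot] at hc

/-! ### Cosets -/

/-- **the coset argument** -/
theorem coset {j : Fin k} {Z₀ : Subgroup G} (h0 : Z₀ ≤ Zs Z j) {p : G} (hpY : p ∈ YQ Z j)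
    (hB : ∀ b ∈ B, b * p * b⁻¹ * p⁻¹ ∈ Zs Z j)
    (hN : ∀ c ∈ YQ Z j, c ∈ normalizer (B : Set G) → c * p * c⁻¹ * p⁻¹ ∈ Zs Z j → c * p * c⁻¹ * p⁻¹ ∈ Z₀)
    {c : G} (hc : c ∈ YQ Z j) (hcp : c * p * c⁻¹ * p⁻¹ ∈ Zs Z j) : c * p * c⁻¹ * p⁻¹ ∈ Z₀ := by
  have hmul : ∀ a ∈ YQ Z j, ∀ b : G, b * p * b⁻¹ * p⁻¹ ∈ Zs Z j →
      a * b * p * (a * b)⁻¹ * p⁻¹ = (b * p * b⁻¹ * p⁻¹) * (a * p * a⁻¹ * p⁻¹) := by
    intro a ha b hb
    have h1 := YQ_Zs ha hb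
    calc a * b * p * (a * b)⁻¹ * p⁻¹ = a * (b * p * b⁻¹ * p⁻¹) * p * a⁻¹ * p⁻¹ := by group
      _ = (b * p * b⁻¹ * p⁻¹) * a * p * a⁻¹ * p⁻¹ := by rw [h1]
      _ = _ := by group
  let H : Subgroup G :=
    { carrier := {c | c ∈ YQ Z j ∧ c * p * c⁻¹ * p⁻¹ ∈ Zs Z j}
      one_mem' := ⟨one_mem _, by simp⟩
      mul_mem' := by
        rintro a b ⟨ha, ha'⟩ ⟨hb, hb'⟩
        refine ⟨mul_mem ha hb, ?_⟩
        rw [hmul a ha b hb']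
        exact mul_mem hb' ha'
      inv_mem' := by
        rintro a ⟨ha, ha'⟩
        refine ⟨inv_mem ha, ?_⟩
        have h1 := YQ_Zs ha (inv_mem ha')
        have e : a⁻¹ * p * a⁻¹⁻¹ * p⁻¹ = a⁻¹ * ((a * p * a⁻¹ * p⁻¹)⁻¹ * a) := by group
        rw [e, ← h1]
        have e2 : a⁻¹ * (a * (a * p * a⁻¹ * p⁻¹)⁻¹) = (a * p * a⁻¹ * p⁻¹)⁻¹ := by group
        rw [e2]
        exact inv_mem ha' }
  have hHY : H ≤ YQ Z j := fun b hb => hb.1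
  have hBH : B ≤ H := fun b hb => ⟨h.B_le_Y j hb, hB b hb⟩
  obtain ⟨T, hT, hBT⟩ := exists_syl h.bg.bau_two hBH
  have hTB : T ≤ normalizer (B : Set G) := h.bg.le_norm_B hT.2.1 hBT
  refine Two.coset (B := T) (Y := H) (Zc := Zs Z j) (Z₀ := Z₀) hT.1 (syl_not_dvd hT)
    (h.bg.bau_two.to_le ((h.Zs_le_ZJ j).trans h.ZJ_le_B)) (fun c hc z hz => YQ_Zs (hHY hc) hz) ?_ h0
    (fun b hb => hN b (hHY (hT.1 hb)) (hTB hb) (hT.1 hb).2) (c := c) ⟨hc, hcp⟩ hcp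
  intro z hz
  refine ⟨h.Zs_le_Y j hz, ?_⟩
  have e := YQ_Zs hpY hz
  rw [← e, mul_inv_cancel_right, mul_inv_cancel]
  exact one_mem _

/-- **`Stab(x)`** -/
theorem coset_Z {j : Fin k} {m : G} (hm : m ∈ Z j) {c : G} (hc : c ∈ YQ Z j)
    (hcm : c * m * c⁻¹ * m⁻¹ ∈ Zs Z j) : c * m = m * c := by
  have h1 := h.coset (Z₀ := ⊥) bot_le (p := m) (h.B_le_Y j (h.Z_le_B j hm)) (fun b hb => by
    rw [(h.bg.fr.blk j).cZ b hb _ hm, mul_inv_cancel_right, mul_inv_cancel]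
    exact one_mem _) (fun c hc hcB hcm => ?_) hc hcm
  · rw [mem_bot] at h1
    have h2 := congrArg (fun t => t * (m * c)) h1
    simpa [mul_assoc] using h2
  · rw [mem_bot]
    refine h.Z_inf_Zs (mul_mem ?_ (inv_mem hm)) hcm
    exact (mem_normalizer_iff.1 (mem_normalizer_iff_cj.2 (h.fixB hcB hc j).2) m).1 hm

/-- **`Stab(y)`** -/
theorem coset_W {i j : Fin k} (hij : i ≠ j) {w : G} (hw : w ∈ W i) {c : G} (hc : c ∈ YQ Z j)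
    (hcw : c * w * c⁻¹ * w⁻¹ ∈ Zs Z j) : c * w * c⁻¹ * w⁻¹ ∈ Z i := by
  refine h.coset (Z₀ := Z i) (Z_le_Zs hij) (p := w) (h.W_le_Y i j hw)
    (fun b hb => Z_le_Zs hij ((h.bg.fr.blk i).com b hb w hw)) (fun c hc hcB hcw => ?_) hc hcw
  refine h.W_inf_ZJ (mul_mem ?_ (inv_mem hw)) (h.Zs_le_ZJ j hcw)
  exact (mem_normalizer_iff.1 (mem_normalizer_iff_cj.2 (h.fixB hcB hc i).1) w).1 hw

/-- `c w c⁻¹ ∈ W i`, `w ∈ W i - Z i` ⟹ `c ∈ N(W i)` -/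
theorem stabW {i j : Fin k} (hij : i ≠ j) {w : G} (hw : w ∈ W i) (hwZ : w ∉ Z i) {c : G} (hc : c ∈ YQ Z j)
    (hcw : c * w * c⁻¹ ∈ W i) : c ∈ normalizer (W i : Set G) := by
  obtain ⟨z, hz, hz1⟩ : ∃ z ∈ Z i, z ≠ 1 := by
    by_contra hcon
    push Not at hcon
    exact h.bg.Z_ne i ((eq_bot_iff_forall _).2 hcon)
  have hw1 : w ≠ 1 := fun e => hwZ (e ▸ one_mem _)
  have hcw1 : c * w * c⁻¹ ≠ 1 := fun e => hw1 (by
    have h1 := congrArg (fun t => c⁻¹ * t * c) e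
    simpa [mul_assoc] using h1)
  obtain ⟨l, hl, e1⟩ := h.trL hw hw1 hz hz1
  obtain ⟨l', hl', e2⟩ := h.trL hcw hcw1 hz hz1
  have hYC : YQ Z i ≤ CQ Z i j := YQ_le_left Z i j
  have hYC' : YQ Z j ≤ CQ Z i j := YQ_le_right Z i j
  set g : G := l'⁻¹ * c * l with hg
  have hgC : g ∈ CQ Z i j := mul_mem (mul_mem (inv_mem (hYC (h.L_le i hl'))) (hYC' hc)) (hYC (h.L_le i hl))
  have hgz : g * z * g⁻¹ = z := by
    have e : g * z * g⁻¹ = l'⁻¹ * (c * (l * z * l⁻¹) * c⁻¹) * l' := by rw [hg]; group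
    rw [e, e1, ← e2]
    group
  have hgN : g ∈ normalizer (Z i : Set G) := by
    refine h.ti i j hij z hz hz1 (mem_inf.2 ⟨mem_centralizer_singleton_iff.2 ?_, hgC⟩)
    exact mul_inv_eq_iff_eq_mul.1 hgz
  have hcj : cj c (cj l (Z i)) = cj l' (Z i) := by
    have e : c * l = l' * g := by rw [hg]; group
    rw [cj_cj, e, ← cj_cj, mem_normalizer_iff_cj.1 hgN]
  have hne : cj l (Z i) ≠ Z i := by
    intro e
    apply hwZ
    rw [← e, ← e1]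
    exact ⟨z, hz, rfl⟩
  have hsup : Z i ⊔ cj l (Z i) = W i := AltQ.sup_eq (h.nb i) hl hne
  have hcZ : cj c (Z i) = Z i := mem_normalizer_iff_cj.1 (centralizer_le_normalizer _ (YQ_cent hij hc))
  have hle : cj c (W i) ≤ W i := by
    conv_lhs => rw [← hsup]
    have e : cj c (Z i ⊔ cj l (Z i)) = cj c (Z i) ⊔ cj c (cj l (Z i)) := Subgroup.map_sup _ _ _
    rw [e, hcZ, hcj]
    refine sup_le (h.bg.fr.blk i).ZV ?_
    rintro _ ⟨x, hx, rfl⟩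
    exact (h.bg.fr.blk i).nV l' hl' x ((h.bg.fr.blk i).ZV hx)
  rw [mem_normalizer_iff_cj]
  exact Subgroup.eq_of_le_of_card_ge hle (by rw [card_cj])

/-! ### The module -/

theorem MQ_norm (i j : Fin k) : YQ Z j ≤ normalizer (MQ Z W ZJ i j : Set G) := cls_self_norm _ _

theorem le_MQ (i j : Fin k) : W i ⊔ ZJ ≤ MQ Z W ZJ i j := le_cls _ _

theorem MQ_min {i j : Fin k} {U : Subgroup G} (h1 : W i ⊔ ZJ ≤ U) (h2 : YQ Z j ≤ normalizer (U : Set G)) :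
    MQ Z W ZJ i j ≤ U := cls_min h1 h2

theorem MQ_le_EQ {i j : Fin k} : MQ Z W ZJ i j ≤ EQ Z ZJ i j :=
  h.MQ_min (sup_le (h.W_le_EQ_left i j) (ZJ_le_EQ Z ZJ i j)) ((YQ_le_right Z i j).trans (CQ_norm_EQ Z ZJ i j))

theorem NQ_le_MQ (i j : Fin k) : NQ Z j ≤ MQ Z W ZJ i j :=
  h.NQ_min ((h.bg.fr.Z_le j).trans (le_sup_right.trans (h.le_MQ i j))) (h.MQ_norm i j)

theorem MQ_sq {i j : Fin k} {x : G} (hx : x ∈ MQ Z W ZJ i j) : x * x = 1 := by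
  rw [← pow_two]
  exact h.EQ_sq (h.MQ_le_EQ hx)

theorem PQ_le_MQ (i j : Fin k) : PQ Z W i j ≤ MQ Z W ZJ i j :=
  (sup_le_sup_left (h.Zs_le_ZJ j) _).trans (h.le_MQ i j)

/-- `[c, w s] = [c, w]` for `s ∈ Zᶜ` -/
theorem comm_mul_Zs {j : Fin k} {c s : G} (hc : c ∈ YQ Z j) (hs : s ∈ Zs Z j) (w : G) :
    c * (w * s) * c⁻¹ * (w * s)⁻¹ = c * w * c⁻¹ * w⁻¹ := by
  have h1 := YQ_Zs (inv_mem hc) hs
  calc c * (w * s) * c⁻¹ * (w * s)⁻¹ = c * w * (s * c⁻¹) * s⁻¹ * w⁻¹ := by group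
    _ = c * w * (c⁻¹ * s) * s⁻¹ * w⁻¹ := by rw [h1]
    _ = _ := by group

theorem four_le {i j : Fin k} (hij : i ≠ j) : 4 ≤ (Zs Z j).relIndex (PQ Z W i j) := by
  have h1 : (Zs Z j).relIndex (W i) ≤ (Zs Z j).relIndex (PQ Z W i j) :=
    relIndex_le_of_le_right (le_sup_left : W i ≤ W i ⊔ Zs Z j) index_ne_zero_of_finite
  have e : Zs Z j ⊓ W i = Z i ⊓ W i := by
    apply le_antisymm
    · rintro x ⟨hx, hw⟩
      exact ⟨h.W_inf_ZJ hw (h.Zs_le_ZJ j hx), hw⟩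
    · exact inf_le_inf_right _ (Z_le_Zs hij)
  have h2 : (Zs Z j).relIndex (W i) = (Z i).relIndex (W i) := by
    rw [← inf_relIndex_right, e, inf_relIndex_right]
  have h3 : Nat.card (Z i) * (Z i).relIndex (W i) = Nat.card (Z i) * q := by
    rw [Star.card_mul_relIndex (h.bg.fr.blk i).ZV, (h.bg.fr.blk i).card]
  have h4 : (Z i).relIndex (W i) = q := Nat.eq_of_mul_eq_mul_left Nat.card_pos h3
  calc 4 ≤ q := h.four
    _ = (Zs Z j).relIndex (W i) := by rw [h2, h4]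
    _ ≤ _ := h1

/-- the pairing -/
theorem pair {i j : Fin k} (hij : i ≠ j) {ζ : G} (hζ : ζ ∈ YQ Z j) (hζT : ζ ∈ normalizer (TY S Z j : Set G))
    {O : Set G} (hO : ∀ w ∈ O, ∃ g ∈ YQ Z j, ∃ m ∈ ZJ, g * m * g⁻¹ = w) (hYO : PQ Z W i j ≤ closure O ⊔ Zs Z j)
    (hT : ∀ t ∈ TY S Z j, ∀ w ∈ O, (ζ * t * ζ⁻¹ * t⁻¹) * w * (ζ * t * ζ⁻¹ * t⁻¹)⁻¹ * w⁻¹ ∈ Zs Z j) :
    ∀ w ∈ PQ Z W i j, ζ * w * ζ⁻¹ * w⁻¹ ∈ Zs Z j := by
  -- `[ζ, T]` centralises `W i`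
  have h1 : ∀ t ∈ TY S Z j, ∀ w ∈ W i, (ζ * t * ζ⁻¹ * t⁻¹) * w = w * (ζ * t * ζ⁻¹ * t⁻¹) := by
    intro t ht w hw
    set τ := ζ * t * ζ⁻¹ * t⁻¹ with hτ
    have hτY : τ ∈ YQ Z j := mul_mem (mul_mem (mul_mem hζ ht.2) (inv_mem hζ)) (inv_mem ht.2)
    have h2 : closure O ⊔ Zs Z j ≤ centralizer ({τ} : Set G) := by
      refine sup_le ?_ fun s hs => mem_centralizer_singleton_iff.2 (YQ_Zs hτY hs).symm
      rw [closure_le]
      intro w hw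
      obtain ⟨g, hg, x, hx, rfl⟩ := hO w hw
      obtain ⟨m, hm, s, hs, rfl⟩ := h.mem_ZJ' (j := j) hx
      have h3 := hT t ht _ hw
      rw [← hτ] at h3
      have hσ : g⁻¹ * τ * g ∈ YQ Z j := mul_mem (mul_mem (inv_mem hg) hτY) hg
      have h4 : (g⁻¹ * τ * g) * (m * s) * (g⁻¹ * τ * g)⁻¹ * (m * s)⁻¹ ∈ Zs Z j := by
        have h5 := YQ_Zs (inv_mem hg) h3
        have e : (g⁻¹ * τ * g) * (m * s) * (g⁻¹ * τ * g)⁻¹ * (m * s)⁻¹ =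
            g⁻¹ * (τ * (g * (m * s) * g⁻¹) * τ⁻¹ * (g * (m * s) * g⁻¹)⁻¹) * g := by group
        rw [e, h5, inv_mul_cancel_right]
        exact h3
      rw [h.comm_mul_Zs hσ hs] at h4
      have h5 := h.coset_Z hm hσ h4
      have h6 := YQ_Zs hσ hs
      have h7 : (g⁻¹ * τ * g) * (m * s) = (m * s) * (g⁻¹ * τ * g) := by
        rw [← mul_assoc, h5, mul_assoc, h6, ← mul_assoc]
      refine mem_centralizer_singleton_iff.2 ?_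
      calc g * (m * s) * g⁻¹ * τ = g * ((m * s) * (g⁻¹ * τ * g)) * g⁻¹ := by group
        _ = g * ((g⁻¹ * τ * g) * (m * s)) * g⁻¹ := by rw [h7]
        _ = τ * (g * (m * s) * g⁻¹) := by group
    exact (mem_centralizer_singleton_iff.1 (h2 (hYO (mem_sup_left hw)))).symm
  have hζB : ζ ∈ normalizer (B : Set G) := h.norm_T_le j (mem_inf.2 ⟨hζ, hζT⟩)
  have hζW : ζ ∈ normalizer (W i : Set G) := mem_normalizer_iff_cj.2 (h.fixB hζB hζ i).1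
  intro x hx
  obtain ⟨w, hw, s, hs, rfl⟩ := h.mem_PQ hx
  rw [h.comm_mul_Zs hζ hs]
  refine Z_le_Zs hij ((h.bg.fr.blk i).toMd.mem_Z_iff.2 ?_)
  have hw' : ζ * w * ζ⁻¹ ∈ W i := (mem_normalizer_iff.1 hζW w).1 hw
  refine ⟨mul_mem hw' (inv_mem hw), fun b hb => ?_⟩
  have hWc : ∀ {x y : G}, x ∈ W i → y ∈ W i → x * y = y * x := fun hx hy =>
    h.bg.fr.Vc (h.bg.fr.WV i hx) (h.bg.fr.WV i hy)
  set b' := ζ⁻¹ * b * ζ with hb'
  have hbT : b ∈ TY S Z j := h.B_le_T j hb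
  have hbT' : b' ∈ TY S Z j := by
    have h2 := (mem_normalizer_iff.1 (inv_mem hζT) b).1 hbT
    rwa [inv_inv] at h2
  have hbB' : b' ∈ B := by
    have h2 := (mem_normalizer_iff.1 (inv_mem hζB) b).1 hb
    rwa [inv_inv] at h2
  have hbW : b' * w * b'⁻¹ ∈ W i := (h.bg.fr.blk i).BV hbB' hw
  -- `[b', w] = [b, w]`
  have h2 : b * w * b⁻¹ = b' * w * b'⁻¹ := by
    have h3 := h1 b' hbT' _ hbW
    have e : ζ * b' * ζ⁻¹ * b'⁻¹ = b * b'⁻¹ := by rw [hb']; group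
    rw [e] at h3
    calc b * w * b⁻¹ = (b * b'⁻¹) * (b' * w * b'⁻¹) * (b' * b⁻¹) := by group
      _ = (b' * w * b'⁻¹) * (b * b'⁻¹) * (b' * b⁻¹) := by rw [h3]
      _ = _ := by group
  have hzc : b' * w * b'⁻¹ * w⁻¹ ∈ Z i := (h.bg.fr.blk i).com b' hbB' w hw
  have h3 : ζ * (b' * w * b'⁻¹ * w⁻¹) = (b' * w * b'⁻¹ * w⁻¹) * ζ := mem_YQ.1 hζ i hij _ hzc
  -- `b (ζ w ζ⁻¹) b⁻¹ = [b', w] (ζ w ζ⁻¹)`
  have h4 : b * (ζ * w * ζ⁻¹) * b⁻¹ = (b' * w * b'⁻¹ * w⁻¹) * (ζ * w * ζ⁻¹) := by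
    calc b * (ζ * w * ζ⁻¹) * b⁻¹ = ζ * (b' * w * b'⁻¹ * w⁻¹) * w * ζ⁻¹ := by rw [hb']; group
      _ = (b' * w * b'⁻¹ * w⁻¹) * ζ * w * ζ⁻¹ := by rw [h3]
      _ = _ := by group
  set z := b' * w * b'⁻¹ * w⁻¹ with hz
  have h5 : b * w * b⁻¹ = z * w := by rw [h2, hz]; group
  have hzW : z ∈ W i := (h.bg.fr.blk i).ZV hzc
  have h6 : b * (ζ * w * ζ⁻¹ * w⁻¹) * b⁻¹ = ζ * w * ζ⁻¹ * w⁻¹ := by
    calc b * (ζ * w * ζ⁻¹ * w⁻¹) * b⁻¹ = (b * (ζ * w * ζ⁻¹) * b⁻¹) * (b * w * b⁻¹)⁻¹ := by group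
      _ = z * (ζ * w * ζ⁻¹) * (z * w)⁻¹ := by rw [h4, h5]
      _ = (z * ((ζ * w * ζ⁻¹) * w⁻¹)) * z⁻¹ := by group
      _ = ((ζ * w * ζ⁻¹) * w⁻¹ * z) * z⁻¹ := by rw [hWc hzW (mul_mem hw' (inv_mem hw))]
      _ = _ := by group
  exact mul_inv_eq_iff_eq_mul.1 h6

/-- **`(Gq)` for `Y_j` on `N / Zᶜ`** -/
theorem gInQ {i j : Fin k} (hij : i ≠ j) (KG : IsKGroup (YQ Z j))
    (nX : YQ Z j ⊓ normalizer (TY S Z j : Set G) ≤ normalizer (ZJ : Set G))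
    (nY : YQ Z j ⊓ normalizer (TY S Z j : Set G) ≤ normalizer (PQ Z W i j : Set G))
    (u1 : ∀ R : Subgroup G, IsMinPar (TY S Z j) R → R ≤ YQ Z j → ∀ m ∈ ZJ,
      (∀ t ∈ TY S Z j, t * m * t⁻¹ * m⁻¹ ∈ Zs Z j) → (∃ p ∈ R, p * m * p⁻¹ * m⁻¹ ∉ Zs Z j) →
      ∀ p ∈ R, ∀ w ∈ PQ Z W i j, p * w * p⁻¹ * w⁻¹ ∈ Zs Z j)
    (u2 : ∀ R : Subgroup G, IsMinPar (TY S Z j) R → R ≤ YQ Z j → ¬ R ≤ normalizer (ZJ : Set G) →
      (∀ p ∈ R, ∀ w ∈ PQ Z W i j, p * w * p⁻¹ * w⁻¹ ∈ Zs Z j) ∧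
      R ≤ normalizer (PQ Z W j j : Set G) ∧
      ∀ v ∈ PQ Z W j j, ∀ w ∈ PQ Z W j j, v ∉ Zs Z j → w ∉ Zs Z j → ∃ p ∈ R, p * v * p⁻¹ * w⁻¹ ∈ Zs Z j)
    {F : Subgroup G} (el : ∀ a ∈ F, a * a = 1) (hFO : F ≤ o2 (centralizer (ZJ : Set G)))
    (hFW : F ≤ o2 (YQ Z j ⊓ centralizer (W i : Set G))) (mv : ¬ F ≤ centralizer (NQ Z j : Set G))
    (hFc : F ⊓ centralizer (NQ Z j : Set G) ≤ centralizer (MQ Z W ZJ i j : Set G))
    (hFe : (centralizer (F : Set G)).relIndex (MQ Z W ZJ i j) ≤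
      (centralizer (MQ Z W ZJ i j : Set G)).relIndex F) :
    KL.Q.PlugGG.GInQ (TY S Z j) (YQ Z j) (MQ Z W ZJ i j) (Zs Z j) ZJ (PQ Z W i j) F where
  TC := (h.syl j).1
  two := h.T_two j
  syl := syl_not_dvd (h.syl j)
  sq := fun _ hn => h.MQ_sq hn
  CN := h.MQ_norm i j
  CZ := fun c hc z hz => YQ_Zs hc hz
  ZX := h.Zs_le_ZJ j
  ZY := le_sup_right
  XN := le_sup_right.trans (h.le_MQ i j)
  YN := h.PQ_le_MQ i j
  Y4 := h.four_le hij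
  XY := by
    rintro x ⟨hx, hx'⟩
    obtain ⟨w, hw, s, hs, rfl⟩ := h.mem_PQ hx'
    refine mul_mem (Z_le_Zs hij (h.W_inf_ZJ hw ?_)) hs
    have e : w = w * s * s⁻¹ := by group
    rw [e]
    exact mul_mem hx (inv_mem (h.Zs_le_ZJ j hs))
  nX := nX
  nY := nY
  tY := by
    intro t ht x hx
    obtain ⟨w, hw, s, hs, rfl⟩ := h.mem_PQ hx
    rw [h.comm_mul_Zs ht.2 hs]
    exact Z_le_Zs hij (h.TY_com hij ht hw)
  sX := by
    intro x hx hmZ c hc hcm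
    obtain ⟨m, hm, s, hs, rfl⟩ := h.mem_ZJ' (j := j) hx
    rw [h.comm_mul_Zs hc hs] at hcm
    have hm1 : m ≠ 1 := by
      rintro rfl
      exact hmZ (by rwa [one_mul])
    have h1 := h.coset_Z hm hc hcm
    exact h.norm_ZJ' hc (h.cent_m hm hm1 (mem_inf.2 ⟨hc, mem_centralizer_singleton_iff.2 h1⟩))
  sY := by
    intro v hv hvZ c hc hcv
    obtain ⟨w, hw, s, hs, rfl⟩ := h.mem_PQ hv
    rw [h.comm_mul_Zs hc hs] at hcv
    have hwZ : w ∉ Z i := fun e => hvZ (mul_mem (Z_le_Zs hij e) hs)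
    have h1 := h.coset_W hij hw hc hcv
    have h2 : c * w * c⁻¹ ∈ W i := by
      have e : c * w * c⁻¹ = c * w * c⁻¹ * w⁻¹ * w := by group
      rw [e]
      exact mul_mem ((h.bg.fr.blk i).ZV h1) hw
    have h3 := h.stabW hij hw hwZ hc h2
    rw [mem_normalizer_iff_cj]
    have e : cj c (W i ⊔ Zs Z j) = cj c (W i) ⊔ cj c (Zs Z j) := Subgroup.map_sup _ _ _
    show cj c (W i ⊔ Zs Z j) = W i ⊔ Zs Z j
    rw [e, mem_normalizer_iff_cj.1 h3]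
    congr 1
    rw [← mem_normalizer_iff_cj]
    refine mem_nor_of (C := YQ Z j) (fun c hc z hz => ?_) hc
    rw [YQ_Zs hc hz, mul_inv_cancel_right]
    exact hz
  u1 := u1
  u2 := by
    intro R hR hRY hn
    obtain ⟨h1, h2, h3⟩ := u2 R hR hRY hn
    refine ⟨h1, PQ Z W j j, ?_, ?_, h2, ?_, h3⟩
    · exact (h.ZJ_le j).trans (sup_le_sup_right (h.bg.fr.blk j).ZV _)
    · refine sup_le ((h.W_le_NQ j).trans (h.NQ_le_MQ i j)) ?_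
      exact (h.Zs_le_ZJ j).trans (le_sup_right.trans (h.le_MQ i j))
    · rintro x ⟨hx, hx'⟩
      obtain ⟨v, hv, s, hs, rfl⟩ := h.mem_PQ hx
      obtain ⟨w, hw, s', hs', e⟩ := h.mem_PQ hx'
      refine mul_mem ?_ hs
      have hsC : s ∈ C j := Two.Zs_le_C h.bg j hs
      have hsC' : s' ∈ C j := Two.Zs_le_C h.bg j hs'
      have hwC : w ∈ C j := h.bg.fr.WjC j i hij.symm hw
      have h5 : v ∈ C j := by
        have e1 : v = w * s' * s⁻¹ := by rw [← e]; group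
        rw [e1]
        exact mul_mem (mul_mem hwC hsC') (inv_mem hsC)
      have h4 : v ∈ W j ⊓ C j := mem_inf.2 ⟨hv, h5⟩
      rw [h.bg.fr.dir j, mem_bot] at h4
      rw [h4]
      exact one_mem _
  ex := by
    obtain ⟨m, hm, hm1, hT⟩ := h.exists_m j
    refine ⟨m, h.bg.fr.Z_le j hm, fun e => hm1 (h.Z_inf_Zs hm e), fun t ht => ?_⟩
    have h1 : t * m = m * t := mem_centralizer_singleton_iff.1 (hT ht)
    rw [h1, mul_inv_cancel_right, mul_inv_cancel]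
    exact one_mem _
  gen := by
    intro x hx hmZ _ U hmU hYU hn
    have hZU : Zs Z j ≤ U := le_sup_right.trans hYU
    obtain ⟨m, hm, s, hs, rfl⟩ := h.mem_ZJ' (j := j) hx
    have hm1 : m ≠ 1 := by
      rintro rfl
      exact hmZ (by rwa [one_mul])
    have hmU' : m ∈ U := by
      have e : m = m * s * s⁻¹ := by group
      rw [e]
      exact mul_mem hmU (inv_mem (hZU hs))
    have h1 : NQ Z j ≤ U := by
      rw [h.NQ_eq hm hm1]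
      exact cls_min (by rwa [zpowers_le]) hn
    refine h.MQ_min (sup_le (le_sup_left.trans hYU) ?_) hn
    exact (h.ZJ_le j).trans (sup_le ((h.Z_le_NQ j).trans h1) hZU)
  pair := fun ζ hζ hζT O hO hYO hT => h.pair hij hζ hζT hO hYO hT
  el := el
  Ax := by
    refine hFO.trans (NO3b.UMethod.o2_le_o2_of_normal (le_inf (h.D_le j) (centralizer_le_normalizer _)) ?_)
    exact inf_le_right.trans fun x hx => centralizer_norm _ hx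
  Ay := by
    refine hFW.trans (NO3b.UMethod.o2_le_o2_of_normal ?_ ?_)
    · refine le_inf inf_le_left ?_
      rintro x ⟨hx, hc⟩
      refine centralizer_le_normalizer _ (mem_centralizer_iff.2 ?_)
      intro v hv
      obtain ⟨w, hw, s, hs, rfl⟩ := h.mem_PQ hv
      have h1 := mem_centralizer_iff.1 hc w hw
      have h2 := YQ_Zs hx hs
      rw [mul_assoc, ← h2, ← mul_assoc, h1, mul_assoc]
    · have e : YQ Z j ⊓ centralizer (W i : Set G) = YQ Z j ⊓ centralizer (PQ Z W i j : Set G) := by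
        apply le_antisymm
        · refine le_inf inf_le_left ?_
          rintro x ⟨hx, hc⟩
          refine mem_centralizer_iff.2 ?_
          intro v hv
          obtain ⟨w, hw, s, hs, rfl⟩ := h.mem_PQ hv
          have h1 := mem_centralizer_iff.1 hc w hw
          have h2 := YQ_Zs hx hs
          rw [mul_assoc, ← h2, ← mul_assoc, h1, mul_assoc]
        · exact inf_le_inf_left _ (centralizer_le (le_sup_left : W i ≤ W i ⊔ Zs Z j))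
      rw [e]
      rintro x ⟨hx, hn⟩
      rw [mem_normalizer_iff_cj, cj_inf, cj_eq_of_mem_normalizer (Subgroup.le_normalizer hx), cj_centralizer,
        cj_eq_of_mem_normalizer hn]
  mv := fun hc => mv (hc.trans (centralizer_le (h.NQ_le_MQ i j)))
  kerA := by
    intro a ha hn
    refine hFc (mem_inf.2 ⟨ha, ?_⟩)
    have haY : a ∈ YQ Z j := h.D_le j ((MinSimple.VModule.o2_le _) (hFO ha))
    have h1 : NQ Z j ≤ centralizer ({a} : Set G) := by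
      refine NoFF.Basic.V_le ?_
      rintro y hy _ ⟨m, hm, rfl⟩
      have hyN : y * m * y⁻¹ ∈ MQ Z W ZJ i j :=
        (mem_normalizer_iff.1 (h.MQ_norm i j hy) m).1 (h.NQ_le_MQ i j (h.Z_le_NQ j hm))
      have h2 := hn _ hyN
      have hσ : y⁻¹ * a * y ∈ YQ Z j := mul_mem (mul_mem (inv_mem hy) haY) hy
      have h3 : (y⁻¹ * a * y) * m * (y⁻¹ * a * y)⁻¹ * m⁻¹ ∈ Zs Z j := by
        have h5 := YQ_Zs (inv_mem hy) h2
        have e : (y⁻¹ * a * y) * m * (y⁻¹ * a * y)⁻¹ * m⁻¹ =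
            y⁻¹ * (a * (y * m * y⁻¹) * a⁻¹ * (y * m * y⁻¹)⁻¹) * y := by group
        rw [e, h5, inv_mul_cancel_right]
        exact h2
      have h4 := h.coset_Z hm hσ h3
      refine mem_centralizer_singleton_iff.2 ?_
      show y * m * y⁻¹ * a = a * (y * m * y⁻¹)
      calc y * m * y⁻¹ * a = y * (m * (y⁻¹ * a * y)) * y⁻¹ := by group
        _ = y * ((y⁻¹ * a * y) * m) * y⁻¹ := by rw [h4]
        _ = _ := by group
    exact mem_centralizer_iff.2 fun n hn => mem_centralizer_singleton_iff.1 (h1 hn)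
  exact := hFe
  KC := KG

end FrQ

end Cfsg.Agent.Omega.EK3.Q

end

-- merged: Cfsg.Agent.Mrg.Omega.EK3.Q.End
section

/-!
# (E), `k ≥ 3`, `q ≥ 4` (bb #23990): the end (helper176)

* `FrQ.gInQ_of` : `(Gq)` for the exact group `F` of STAR;
* **`FrQ.false`** : the frame `FrQ` is impossible (`MLK`, `Ext`).
-/

set_option autoImplicit false
set_option maxHeartbeats 400000

namespace Cfsg.Agent.Omega.EK3.Q

open Subgroup Cfsg Cfsg.Agent.ZN.ChoiceBase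
open Cfsg.Agent.ZN (jj zj bau zc zl o2)
open Cfsg.Agent.Omega
open Cfsg.Agent.Omega.OM Cfsg.Agent.Omega.OM.Uni
open Cfsg.Agent.Omega.NO3S.EThree.Frame
open Cfsg.Agent.Omega.Node.MultiOf
open Cfsg.Agent.Omega.EK3.StarE (EE norm_EE le_EE)
open Cfsg.Agent.Omega.EK3.Two (Zs Z_le_Zs)

universe u

variable {G : Type u} [Group G] {k : ℕ}

namespace FrQ

variable [Finite G] {S : Sylow 2 G} {P K B ZJ : Subgroup G} {L W Z C : Fin k → Subgroup G} {q : ℕ}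
  (h : FrQ S P K B ZJ L W Z C q)
include h

theorem MQ_le_EE (i j : Fin k) : MQ Z W ZJ i j ≤ EE ZJ (YQ Z i ⊔ YQ Z j) :=
  h.MQ_min (sup_le ((h.W_le_NQ i).trans (h.NQ_le_EE' j i |>.trans (by rw [sup_comm]))) (le_EE _ _))
    ((le_sup_right : YQ Z j ≤ YQ Z i ⊔ YQ Z j).trans (norm_EE _ _))

/-- **`(Gq)` for the exact group of STAR** -/
theorem gInQ_of {i j : Fin k} {F : Subgroup G} (o : OutQ ZJ W Z i j F) (KG : IsKGroup (YQ Z j)) :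
    KL.Q.PlugGG.GInQ (TY S Z j) (YQ Z j) (MQ Z W ZJ i j) (Zs Z j) ZJ (PQ Z W i j) F := by
  have h1 := o.exact (MQ Z W ZJ i j) (h.NQ_le_MQ i j) (h.MQ_le_EE i j)
  refine h.gInQ o.ne KG (h.nX j) (h.nY i j) (fun R hR hRY m hm hT hmv => h.u1 o.ne hR hRY hm hT hmv)
    (fun R hR hRY hn => h.u2 o.ne hR hRY hn) (fun a ha => ?_) o.leO o.low o.mov h1.1 ?_
  · rw [← pow_two]
    exact o.eab.2 a ha
  · exact (h1.2.2.trans h1.2.1.symm).le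

/-- **The frame `FrQ` is impossible.** -/
theorem false (hML : ML.Final.MLK.{u, u}) (hE : ML.Ex.Two.Ext.{u, u}) (hK : ∀ j, IsKGroup (YQ Z j))
    (hN : NLoc (KZ B ZJ)) : False := by
  obtain ⟨i, j, F, o⟩ := h.out hML hK hN
  obtain ⟨M, _, _, _, X', Y', hp⟩ := (h.gInQ_of o (hK j)).pre
  exact KL.Q.EndG.noPreG hML hE _ _ _ _ _ _ hp

end FrQ

end Cfsg.Agent.Omega.EK3.Q

end

-- merged: Cfsg.Agent.Mrg.Omega.EK3.Q.Main
section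

/-!
# Row (8) of the ledger #22041: `EOf K (3 ≤ k ∧ 4 ≤ q)`, all stages, modulo `MLK`, `Ext`

* `midIn` : the frame `FrQ` is impossible;
* **`eOf`** : **row (8)**.
-/

set_option autoImplicit false

namespace Cfsg.Agent.Omega.EK3.Q.Tree

open Cfsg.Agent.Omega.Frame (Cls)
open Cfsg.Agent.Omega.Node.MultiOf
open Cfsg.Agent.Omega.ML.Final (MLK)

universe u

theorem midIn (hML : MLK.{u, u}) (hX : ML.Ex.Two.Ext.{u, u}) : MidIn.{u} :=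
  fun _ _ _ _ _ _ _ _ _ _ _ _ _ _ h hK hN => h.false hML hX hK hN

/-- **Row (8)**: (E), `k ≥ 3`, `q ≥ 4`, every stage. -/
theorem eOf (hML : MLK.{u, u}) (hX : ML.Ex.Two.Ext.{u, u}) (K : Cls.{u}) : EOf K fun k q => 3 ≤ k ∧ 4 ≤ q :=
  eOf_of hML hX (midIn hML hX) K

end Cfsg.Agent.Omega.EK3.Q.Tree

end
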