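import Cfsg.Agent.Mrg.Omega.EK3.Q.Def
import Cfsg.Agent.Mrg.Omega.Node.MulG
import Cfsg.Agent.Mrg.Omega.NO3S.EThree.Frame
import Cfsg.Agent.Mrg.Omega.TC.UniLev
import Cfsg.Agent.Mrg.Omega.NO3S.EMany.Four
import Cfsg.Agent.Mrg.Omega.EK3.Rank
import Cfsg.Agent.Mrg.Omega.ML.MinIrr
import Cfsg.Agent.Mrg.Omega.EK3.Q.Split
import Cfsg.Agent.Mrg.Omega.EK3.UFixG
import Cfsg.Agent.Mrg.Omega.OM.Lev.HUMul

-- merged: Cfsg.Agent.Mrg.Omega.EK3.QG.Def
section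

/-!
# (E), `k ≥ 3`, `q ≥ 4`, over the general frame `MulG` (`HypL` and the case (L) of GammaFF): the frame `FrG`

`YQ`, `CQ`, `NQ`, `TY` as in `EK3/Q/Def.lean`. `blk` only for `R ≤ Y_j`, with UNI+ in it (no other block occurs); the nonlocality is
that of `⟨C_G(Z_J), L_1, .., L_k⟩`.
-/

set_option autoImplicit false
set_option linter.unusedSectionVars false

namespace Cfsg.Agent.Omega.EK3.QG

open Subgroup Cfsg Cfsg.Agent.ZN.ChoiceBase
open Cfsg.Agent.ZN (jj zj bau zc zl o2)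
open Cfsg.Agent.ZN.ChoiceSit (Syl)
open Cfsg.Agent.Omega.Node.MultiOf Cfsg.Agent.Omega.Node.MulG
open Cfsg.Agent.MinSimple.MinParabolic (IsMinPar)
open Cfsg.Agent.Omega.EK3.Q (YQ CQ NQ TY)

universe u

variable {G : Type u} [Group G] {k : ℕ}

/-- **The frame of (E), `k ≥ 3`, `q ≥ 4`, over `MulG`.** -/
structure FrG [Finite G] (S : Sylow 2 G) (P K B ZJ : Subgroup G) (L W Z C : Fin k → Subgroup G) (q : ℕ) : Prop where
  mul : MulG S P K B ZJ L W Z C q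
  three : 3 ≤ k
  four : 4 ≤ q
  /-- the only form of (TI) used: `C_G(⟨m⟩ × Λ_j) ≤ N_G(Z_j)` -/
  ti : ∀ j, ∀ m ∈ Z j, m ≠ 1 → YQ Z j ⊓ centralizer ({m} : Set G) ≤ normalizer (Z j : Set G)
  /-- minimal parabolics over `T_j` in `Y_j` which move `Ω₁(Z(T_j))`, `K ≰ O₂(R)`, contain a block with module `W j` -/
  blk : ∀ j, ∀ R : Subgroup G, R ≤ YQ Z j → IsMinPar (TY S Z j) R → Syl (TY S Z j) R →
    R ⊓ centralizer (o2 R : Set G) ≤ o2 R → ¬ K ≤ o2 R → ¬ R ≤ centralizer (zc (TY S Z j) : Set G) →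
      ∃ L' : Subgroup G, FBl B L' (W j) ∧ L' ≤ R ∧ R ≤ L' ⊔ TY S Z j

/-- from the weak (TI), UNI+ and block generation in `Y_j` -/
theorem FrG.of_uniW [Finite G] {S : Sylow 2 G} {P K B ZJ : Subgroup G} {L W Z C : Fin k → Subgroup G} {q : ℕ}
    (mul : MulG S P K B ZJ L W Z C q) (three : 3 ≤ k) (four : 4 ≤ q)
    (ti : ∀ j, ∀ m ∈ Z j, m ≠ 1 → YQ Z j ⊓ centralizer ({m} : Set G) ≤ normalizer (Z j : Set G))
    (uni : ∀ j, ∀ L' V' : Subgroup G, FBl B L' V' → L' ≤ YQ Z j → V' = W j)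
    (blk : ∀ j, ∀ R : Subgroup G, R ≤ YQ Z j → IsMinPar (TY S Z j) R → Syl (TY S Z j) R →
      R ⊓ centralizer (o2 R : Set G) ≤ o2 R → ¬ K ≤ o2 R → ¬ R ≤ centralizer (zc (TY S Z j) : Set G) →
        ∃ L' V' : Subgroup G, FBl B L' V' ∧ L' ≤ R ∧ R ≤ L' ⊔ TY S Z j) : FrG S P K B ZJ L W Z C q where
  mul := mul
  three := three
  four := four
  ti := ti
  blk := by
    intro j R hRY hR hT hc hK hZ
    obtain ⟨L', V', h1, h2, h3⟩ := blk j R hRY hR hT hc hK hZ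
    obtain rfl := uni j L' V' h1 (h2.trans hRY)
    exact ⟨L', h1, h2, h3⟩

/-- (TI) for pairs gives the weak (TI) -/
theorem tiW_of_ti {Z : Fin k → Subgroup G} (hk : 2 ≤ k)
    (ti : ∀ i j, i ≠ j → ∀ z ∈ Z i, z ≠ 1 → centralizer ({z} : Set G) ⊓ CQ Z i j ≤ normalizer (Z i : Set G)) :
    ∀ j, ∀ m ∈ Z j, m ≠ 1 → YQ Z j ⊓ centralizer ({m} : Set G) ≤ normalizer (Z j : Set G) := by
  intro j m hm hm1
  have : Nontrivial (Fin k) := Fin.nontrivial_iff_two_le.2 hk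
  obtain ⟨i, hi⟩ := exists_ne j
  rintro x ⟨hx, hc⟩
  exact ti j i hi.symm m hm hm1 ⟨hc, Q.YQ_le_left Z j i hx⟩

/-- from UNI+ and block generation in `Y_j` -/
theorem FrG.of_uni [Finite G] {S : Sylow 2 G} {P K B ZJ : Subgroup G} {L W Z C : Fin k → Subgroup G} {q : ℕ}
    (mul : MulG S P K B ZJ L W Z C q) (three : 3 ≤ k) (four : 4 ≤ q)
    (ti : ∀ i j, i ≠ j → ∀ z ∈ Z i, z ≠ 1 → centralizer ({z} : Set G) ⊓ CQ Z i j ≤ normalizer (Z i : Set G))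
    (uni : ∀ j, ∀ L' V' : Subgroup G, FBl B L' V' → L' ≤ YQ Z j → V' = W j)
    (blk : ∀ j, ∀ R : Subgroup G, R ≤ YQ Z j → IsMinPar (TY S Z j) R → Syl (TY S Z j) R →
      R ⊓ centralizer (o2 R : Set G) ≤ o2 R → ¬ K ≤ o2 R → ¬ R ≤ centralizer (zc (TY S Z j) : Set G) →
        ∃ L' V' : Subgroup G, FBl B L' V' ∧ L' ≤ R ∧ R ≤ L' ⊔ TY S Z j) : FrG S P K B ZJ L W Z C q :=
  FrG.of_uniW mul three four (tiW_of_ti (by omega) ti) uni blk

end Cfsg.Agent.Omega.EK3.QG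

end

-- merged: Cfsg.Agent.Mrg.Omega.EK3.QG.Inst
section

section


/-!
# (E), `k ≥ 3`, `q ≥ 4` (bb #22703, #23165): basic facts over the frame `FrG` (port of `EK3/Q/Inst.lean` to `MulG`)

* `stab`, `sylD`, `syl`, `conj`, `fixB`; `TY_com` : `T_j` acts trivially on `W l / Z l` (`l ≠ j`);
* `exists_m`, `char2`, `NQ_eq`, `W_le_NQ`, `NQ_le_zc`, `Q_eq`, `O_le`;
* `normZ`, `frat`.
-/

set_option autoImplicit false
set_option linter.unusedSectionVars false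

namespace Cfsg.Agent.Omega.EK3.QG

open Subgroup Cfsg Cfsg.Agent.ZN.ChoiceBase
open Cfsg.Agent.ZN (jj zj bau zc zl o2)
open Cfsg.Agent.ZN.ChoiceSit (Syl exists_syl syl_conj o2_le_syl)
open Cfsg.Agent.Omega.OM Cfsg.Agent.Omega.OM.Uni
open Cfsg.Agent.Omega.NO3S.EThree.Frame
open Cfsg.Agent.Omega.Node.MultiOf
open Cfsg.Agent.Omega.Node.MulG
open Cfsg.Agent.Omega.EK3.Q (YQ CQ NQ TY mem_YQ mem_CQ CQ_comm YQ_le_left YQ_le_right YQ_cent CQ_cent YQ_eq_cent CQ_eq_cent)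
open Cfsg.Agent.MinSimple.VModule (le_normalizer_o2 o2_isPGroup le_o2 o2_le mem_zc)
open Cfsg.Agent.MinSimple.MinParabolic (IsMinPar)
open scoped Pointwise

universe u

variable {G : Type u} [Group G] {k : ℕ}

namespace FrG

variable [Finite G] {S : Sylow 2 G} {P K B ZJ : Subgroup G} {L W Z C : Fin k → Subgroup G} {q : ℕ}
  (h : FrG S P K B ZJ L W Z C q)
include h

theorem bg : Bg S P B ZJ L W Z C q := h.mul.bg

theorem lb : LevD.LB S K B ZJ := h.mul.lb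

theorem two_lt : 2 < q := lt_of_lt_of_le (by norm_num) h.four

theorem exists_ne (j : Fin k) : ∃ i, i ≠ j := h.bg.two j

theorem Z_le_C {l j : Fin k} (hl : l ≠ j) : Z l ≤ C j := (h.bg.fr.blk l).ZV.trans (h.bg.fr.WjC j l hl.symm)

theorem D_le (j : Fin k) : centralizer (ZJ : Set G) ≤ YQ Z j := fun _ hx =>
  mem_YQ.2 fun l _ z hz => (mem_centralizer_iff.1 hx z (h.bg.fr.Z_le l hz)).symm

theorem L_le (j : Fin k) : L j ≤ YQ Z j := fun x hx =>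
  mem_YQ.2 fun l hl z hz => h.bg.fr.LC j x hx z (h.bg.fr.Z_le l hz) (h.Z_le_C hl hz)

theorem B_le_D : B ≤ centralizer (ZJ : Set G) := h.bg.eqB.le.trans inf_le_right

theorem B_le_Y (j : Fin k) : B ≤ YQ Z j := h.B_le_D.trans (h.D_le j)

theorem B_le_T (j : Fin k) : B ≤ TY S Z j := le_inf h.bg.BS (h.B_le_Y j)

theorem W_le_B (j : Fin k) : W j ≤ B := (h.bg.fr.WV j).trans h.bg.fr.VB

theorem Z_le_B (j : Fin k) : Z j ≤ B := (h.bg.fr.blk j).ZV.trans (h.W_le_B j)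

/-- `ZJ = ⟨Z l⟩` -/
theorem ZJ_eq : ZJ = ⨆ l, Z l := by
  apply le_antisymm
  · intro z hz
    obtain ⟨i⟩ : Nonempty (Fin k) := ⟨⟨0, lt_of_lt_of_le (by norm_num) h.three⟩⟩
    obtain ⟨w, hw, c, hc, hcJ, rfl⟩ := h.bg.fr.split_ZJ i hz
    have h1 : c ∈ ⨆ j : {j : Fin k // j ≠ i}, Z j := h.bg.ZC_le i ⟨hcJ, hc⟩
    have h2 : (⨆ j : {j : Fin k // j ≠ i}, Z j) ≤ ⨆ l, Z l := iSup_le fun j => le_iSup Z j.1
    exact mul_mem (le_iSup Z i hw) (h2 h1)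
  · exact iSup_le h.bg.fr.Z_le

theorem mem_D {x : G} : x ∈ centralizer (ZJ : Set G) ↔ ∀ l, ∀ z ∈ Z l, x * z = z * x := by
  constructor
  · exact fun hx l z hz => (mem_centralizer_iff.1 hx z (h.bg.fr.Z_le l hz)).symm
  · intro hx
    have h1 : ZJ ≤ centralizer ({x} : Set G) := by
      rw [h.ZJ_eq]
      exact iSup_le fun l z hz => by
        rw [mem_centralizer_singleton_iff]
        exact (hx l z hz).symm
    exact mem_centralizer_iff.2 fun z hz => mem_centralizer_singleton_iff.1 (h1 hz)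

/-- **`C_{Y_j}(Z_j) = D`** -/
theorem stab (j : Fin k) : YQ Z j ⊓ centralizer (Z j : Set G) = centralizer (ZJ : Set G) := by
  apply le_antisymm
  · rintro x ⟨hx, hxc⟩
    rw [h.mem_D]
    intro l z hz
    by_cases hl : l = j
    · subst hl
      exact (mem_centralizer_iff.1 hxc z hz).symm
    · exact mem_YQ.1 hx l hl z hz
  · exact le_inf (h.D_le j) (centralizer_le (h.bg.fr.Z_le j))

theorem sylD : Syl B (centralizer (ZJ : Set G)) := h.bg.syl_B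

theorem O_le_B : o2 (centralizer (ZJ : Set G)) ≤ B := o2_le_syl h.sylD

/-! ### `N_G(B)` -/

omit h [Finite G] in
theorem cj_YQ_le {n : G} {σ : Equiv.Perm (Fin k)} (hσ : ∀ l, cj n (Z l) = Z (σ l)) (j : Fin k) :
    YQ Z (σ j) ≤ cj n (YQ Z j) := by
  intro x hx
  rw [mem_cj]
  refine mem_YQ.2 fun l hl z hz => ?_
  have h1 : n * z * n⁻¹ ∈ Z (σ l) := (hσ l) ▸ ⟨z, hz, rfl⟩
  have h2 := mem_YQ.1 hx (σ l) (fun e => hl (σ.injective e)) _ h1
  have h3 := congrArg (fun t => n⁻¹ * t * n) h2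
  have e1 : n⁻¹ * (x * (n * z * n⁻¹)) * n = n⁻¹ * x * n * z := by group
  have e2 : n⁻¹ * (n * z * n⁻¹ * x) * n = z * (n⁻¹ * x * n) := by group
  rw [← e1, ← e2]
  exact h3

omit h [Finite G] in
theorem cj_YQ {n : G} {σ : Equiv.Perm (Fin k)} (hσ : ∀ l, cj n (Z l) = Z (σ l)) (j : Fin k) :
    cj n (YQ Z j) = YQ Z (σ j) := by
  refine le_antisymm ?_ (cj_YQ_le hσ j)
  have hσ' : ∀ l, cj n⁻¹ (Z l) = Z (σ.symm l) := by
    intro l
    have h1 := hσ (σ.symm l)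
    rw [Equiv.apply_symm_apply] at h1
    rw [← h1, cj_inv_cj]
  have h2 := cj_YQ_le hσ' (σ j)
  rw [Equiv.symm_apply_apply] at h2
  have h3 := cj_mono n h2
  rwa [cj_cj_inv] at h3

omit h [Finite G] in
theorem cj_V (n : G) (X Y : Subgroup G) : cj n (NoFF.Basic.V X Y) = NoFF.Basic.V (cj n X) (cj n Y) := by
  have key : ∀ (n : G) (X Y : Subgroup G), NoFF.Basic.V (cj n X) (cj n Y) ≤ cj n (NoFF.Basic.V X Y) := by
    intro n X Y
    refine NoFF.Basic.V_le fun p hp => ?_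
    rw [mem_cj] at hp
    have h1 : cj (n⁻¹ * p * n) X ≤ NoFF.Basic.V X Y := NoFF.Basic.Z_le_V hp
    have h2 := cj_mono n h1
    rw [cj_cj] at h2
    have e : n * (n⁻¹ * p * n) = p * n := by group
    rw [e, ← cj_cj] at h2
    exact h2
  refine le_antisymm ?_ (key n X Y)
  have h1 := cj_mono n (key n⁻¹ (cj n X) (cj n Y))
  rwa [cj_inv_cj, cj_inv_cj, cj_cj_inv] at h1

omit h [Finite G] in
theorem cj_NQ {n : G} {σ : Equiv.Perm (Fin k)} (hσ : ∀ l, cj n (Z l) = Z (σ l)) (j : Fin k) :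
    cj n (NQ Z j) = NQ Z (σ j) := by
  unfold NQ
  rw [cj_V, hσ j, cj_YQ hσ j]

/-- **`N_G(B)` permutes everything** -/
theorem conj {n : G} (hn : n ∈ normalizer (B : Set G)) : ∃ σ : Equiv.Perm (Fin k), ∀ l,
    cj n (W l) = W (σ l) ∧ cj n (Z l) = Z (σ l) ∧ cj n (YQ Z l) = YQ Z (σ l) ∧ cj n (NQ Z l) = NQ Z (σ l) := by
  obtain ⟨σ, hσ⟩ := h.bg.perm_W hn
  exact ⟨σ, fun l => ⟨(hσ l).1, (hσ l).2, cj_YQ (fun l => (hσ l).2) l, cj_NQ (fun l => (hσ l).2) l⟩⟩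

/-- `N_G(B) ∩ Y_j` fixes all indices -/
theorem fixB {n : G} (hn : n ∈ normalizer (B : Set G)) {j : Fin k} (hY : n ∈ YQ Z j) (l : Fin k) :
    cj n (W l) = W l ∧ cj n (Z l) = Z l := by
  obtain ⟨σ, hσ⟩ := h.bg.perm_W hn
  have h1 : ∀ l, l ≠ j → σ l = l := by
    intro l hl
    refine h.bg.Z_inj ?_
    rw [← (hσ l).2]
    exact mem_normalizer_iff_cj.1 (centralizer_le_normalizer _ (YQ_cent hl hY))
  have h2 : σ l = l := by
    by_cases hl : l = j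
    · subst hl
      by_contra hne
      exact hne (σ.injective (h1 _ hne))
    · exact h1 l hl
  have h3 := hσ l
  rwa [h2] at h3

/-! ### The Sylow group `T_j` -/

theorem T_two (j : Fin k) : IsPGroup 2 (TY S Z j) := S.isPGroup'.to_le inf_le_left

theorem T_norm_B (j : Fin k) : TY S Z j ≤ normalizer (B : Set G) := h.bg.le_norm_B (h.T_two j) (h.B_le_T j)

theorem T_norm_W (j l : Fin k) : TY S Z j ≤ normalizer (W l : Set G) := fun _ ht =>
  mem_normalizer_iff_cj.2 (h.fixB (h.T_norm_B j ht) ht.2 l).1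

theorem T_norm_Z (j l : Fin k) : TY S Z j ≤ normalizer (Z l : Set G) := fun _ ht =>
  mem_normalizer_iff_cj.2 (h.fixB (h.T_norm_B j ht) ht.2 l).2

theorem cj_T {s : G} (hs : s ∈ (S : Subgroup G)) {σ : Equiv.Perm (Fin k)} (hσ : ∀ l, cj s (Z l) = Z (σ l))
    (j : Fin k) : cj s (TY S Z j) = TY S Z (σ j) := by
  unfold TY
  rw [cj_inf, cj_YQ hσ j, cj_eq_of_mem_normalizer (Subgroup.le_normalizer hs)]

/-- **`S` is transitive** -/
theorem conj_S (i j : Fin k) : ∃ s ∈ (S : Subgroup G), ∃ σ : Equiv.Perm (Fin k), σ i = j ∧ ∀ l,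
    cj s (W l) = W (σ l) ∧ cj s (Z l) = Z (σ l) ∧ cj s (YQ Z l) = YQ Z (σ l) ∧ cj s (NQ Z l) = NQ Z (σ l) ∧
      cj s (TY S Z l) = TY S Z (σ l) := by
  obtain ⟨s, hs, e⟩ := h.bg.trans i j
  obtain ⟨σ, hσ⟩ := h.conj (h.bg.S_norm_B hs)
  refine ⟨s, hs, σ, h.bg.W_inj (by rw [← (hσ i).1, e]), fun l => ⟨(hσ l).1, (hσ l).2.1, (hσ l).2.2.1, (hσ l).2.2.2,
    h.cj_T hs (fun l => (hσ l).2.1) l⟩⟩

theorem card_T (i j : Fin k) : Nat.card (TY S Z i) = Nat.card (TY S Z j) := by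
  obtain ⟨s, -, σ, rfl, hσ⟩ := h.conj_S i j
  rw [← (hσ i).2.2.2.2, card_cj]

/-- **`T_j` is a Sylow 2-subgroup of `Y_j`** -/
theorem syl (j : Fin k) : Syl (TY S Z j) (YQ Z j) := by
  refine ⟨inf_le_right, h.T_two j, fun R hR h2 hle => ?_⟩
  symm
  refine Subgroup.eq_of_le_of_card_ge hle ?_
  have hBR : B ≤ R := (h.B_le_T j).trans hle
  have h1 : R ≤ normalizer (B : Set G) := h.bg.le_norm_B h2 hBR
  obtain ⟨R', hR', hle'⟩ := exists_syl h2 h1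
  have hS : Syl (S : Subgroup G) (normalizer (B : Set G)) :=
    ⟨h.bg.S_norm_B, S.isPGroup', fun _ _ hT hST => S.is_maximal' hT hST⟩
  obtain ⟨x, hx, e⟩ := syl_conj hR' hS
  obtain ⟨σ, hσ⟩ := h.conj hx
  have h3 : cj x R ≤ TY S Z (σ j) := by
    refine le_inf ?_ ?_
    · rw [← e]
      exact cj_mono x hle'
    · rw [← (hσ j).2.2.1]
      exact cj_mono x hR
  rw [← card_cj x R, h.card_T j (σ j)]
  exact Subgroup.card_le_of_le h3

/-- `C_{Z_j}(T_j) ≠ 1` -/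
theorem exists_m (j : Fin k) : ∃ m ∈ Z j, m ≠ 1 ∧ TY S Z j ≤ centralizer ({m} : Set G) := by
  have : Fact (Nat.Prime 2) := ⟨Nat.prime_two⟩
  set T := TY S Z j with hT
  have hZT : Z j ≤ T := (h.Z_le_B j).trans (h.B_le_T j)
  have hnil : Group.IsNilpotent T := (h.T_two j).isNilpotent
  have hnor : ((Z j).subgroupOf T).Normal := normal_subgroupOf_of_le_normalizer (h.T_norm_Z j j)
  have hne : (Z j).subgroupOf T ≠ ⊥ := by
    rw [Ne, subgroupOf_eq_bot, disjoint_iff]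
    intro e
    rw [inf_eq_left.2 hZT] at e
    exact h.bg.Z_ne j e
  have h1 := Lib.NormalAbelian.normal_inf_center_ne_bot ((Z j).subgroupOf T) hne
  obtain ⟨⟨⟨x, hx⟩, hxZ, hxc⟩, hx1⟩ := Subgroup.ne_bot_iff_exists_ne_one.1 h1
  refine ⟨x, mem_subgroupOf.1 hxZ, fun e => hx1 (Subtype.ext (Subtype.ext e)), fun t ht => ?_⟩
  rw [mem_centralizer_singleton_iff]
  exact congrArg Subtype.val (mem_center_iff.1 hxc ⟨t, ht⟩)

end FrG

end Cfsg.Agent.Omega.EK3.QG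

end

section


/-!
# (E), `k ≥ 3`, `q ≥ 4` (bb #22703, #23165): facts over the frame `FrG` (port of `EK3/Q/Facts.lean` to `MulG`)

* `TY_com` : `T_j` acts trivially on `W l / Z l`, `l ≠ j`;
* `char2`, `char2_C`; `W_le_NQ`, `NQ_norm`, `NQ_eq`, `NQ_le_zc`, `NQ_comm`, `NQ_sq`;
* `cent_le_D`, `Q_le_D`, `Q_eq`, `O_le`;
* `frat`, `norm_ZJ`, `normZ`.

Several proofs follow helper88's `EK3/InstQ.lean`.
-/

set_option autoImplicit false
set_option linter.unusedSectionVars false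
set_option linter.unusedVariables false

namespace Cfsg.Agent.Omega.EK3.QG

open Subgroup Cfsg Cfsg.Agent.ZN.ChoiceBase
open Cfsg.Agent.ZN (jj zj bau zc zl o2)
open Cfsg.Agent.ZN.ChoiceSit (Syl exists_syl syl_conj isPGroup_o2 le_o2 le_normalizer_o2 o2_le_syl syl_not_dvd)
open Cfsg.Agent.Omega
open Cfsg.Agent.Omega.OM Cfsg.Agent.Omega.OM.Uni
open Cfsg.Agent.Omega.OM.UniPlus (NB)
open Cfsg.Agent.Omega.NO3S.EThree.Frame
open Cfsg.Agent.Omega.NO3S.EMany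
open Cfsg.Agent.Omega.Node.MultiOf
open Cfsg.Agent.Omega.Node.MulG
open Cfsg.Agent.Omega.EK3.Q (YQ CQ NQ TY mem_YQ mem_CQ CQ_comm YQ_le_left YQ_le_right YQ_cent CQ_cent YQ_eq_cent CQ_eq_cent)
open Cfsg.Agent.Omega.EK3.Q (le_cls cls_self_norm cls_min cj_le_cls centralizer_norm)
open Cfsg.Agent.MinSimple.MinParabolic (IsMinPar)
open scoped Pointwise

universe u

variable {G : Type u} [Group G] {k : ℕ}

namespace FrG

variable [Finite G] {S : Sylow 2 G} {P K B ZJ : Subgroup G} {L W Z C : Fin k → Subgroup G} {q : ℕ}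
  (h : FrG S P K B ZJ L W Z C q)
include h

/-! ### `T_j` on `W l / Z l` -/

/-- **`T_j` acts trivially on `W l / Z l`, `l ≠ j`.** -/
theorem TY_com {j l : Fin k} (hl : l ≠ j) {t w : G} (ht : t ∈ TY S Z j) (hw : w ∈ W l) :
    t * w * t⁻¹ * w⁻¹ ∈ Z l := by
  have : Fact (Nat.Prime 2) := ⟨Nat.prime_two⟩
  have hZW : Z l ≤ W l := (h.bg.fr.blk l).ZV
  have hc : ∀ {x y : G}, x ∈ W l → y ∈ W l → x * y = y * x := fun hx hy =>
    h.bg.fr.Vc (h.bg.fr.WV l hx) (h.bg.fr.WV l hy)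
  have htZ : ∀ {t z : G}, t ∈ TY S Z j → z ∈ Z l → t * z = z * t := fun ht hz => mem_YQ.1 ht.2 l hl _ hz
  have hWT : W l ≤ TY S Z j := (h.W_le_B l).trans (h.B_le_T j)
  -- `v ∈ W l - Z l` with `[v, T_j] ≤ Z l`
  obtain ⟨v, hv, hvZ, hvT⟩ : ∃ v ∈ W l, v ∉ Z l ∧ ∀ t ∈ TY S Z j, t * v * t⁻¹ * v⁻¹ ∈ Z l := by
    set T := TY S Z j with hT
    have hZn : ((Z l).subgroupOf T).Normal := normal_subgroupOf_of_le_normalizer (h.T_norm_Z j l)
    have hWn : ((W l).subgroupOf T).Normal := normal_subgroupOf_of_le_normalizer (h.T_norm_W j l)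
    let φ := QuotientGroup.mk' ((Z l).subgroupOf T)
    have hnil : Group.IsNilpotent (T ⧸ (Z l).subgroupOf T) := ((h.T_two j).to_quotient _).isNilpotent
    have hn2 : (((W l).subgroupOf T).map φ).Normal := hWn.map φ (QuotientGroup.mk'_surjective _)
    have hne : ((W l).subgroupOf T).map φ ≠ ⊥ := by
      intro e
      have h1 : (W l).subgroupOf T ≤ (Z l).subgroupOf T := by
        have h2 := (Subgroup.map_eq_bot_iff _).1 e
        rwa [QuotientGroup.ker_mk'] at h2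
      have h3 : W l ≤ Z l := fun x hx => mem_subgroupOf.1 (h1 (mem_subgroupOf.2 (show ((⟨x, hWT hx⟩ : T) : G) ∈ W l from hx)))
      have h4 := Subgroup.card_le_of_le h3
      have h5 := (h.bg.fr.blk l).card
      have h6 := h.bg.fr.cardZ l
      have h7 := h.four
      rw [h5, h6] at h4
      nlinarith
    have h1 := Lib.NormalAbelian.normal_inf_center_ne_bot (((W l).subgroupOf T).map φ) hne
    obtain ⟨⟨x, hxW, hxc⟩, hx1⟩ := Subgroup.ne_bot_iff_exists_ne_one.1 h1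
    obtain ⟨⟨v, hvT⟩, hvW, rfl⟩ := hxW
    have hvW : v ∈ W l := hvW
    refine ⟨v, hvW, fun hvZ => hx1 (Subtype.ext ?_), fun t ht => ?_⟩
    · exact (QuotientGroup.eq_one_iff _).2 hvZ
    · have h2 := mem_center_iff.1 hxc (φ ⟨t, ht⟩)
      have h3 : φ (⟨t, ht⟩ * ⟨v, hvT⟩ * (⟨t, ht⟩ : T)⁻¹ * (⟨v, hvT⟩ : T)⁻¹) = 1 := by
        rw [map_mul, map_mul, map_mul, map_inv, map_inv, h2]
        group
      have h4 := (QuotientGroup.eq_one_iff (N := (Z l).subgroupOf T) _).1 h3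
      exact mem_subgroupOf.1 h4
  by_cases hwZ : w ∈ Z l
  · rw [htZ ht hwZ, mul_inv_cancel_right, mul_inv_cancel]
    exact one_mem _
  obtain ⟨x, hxP, hxC, hxZ, hx, hwv, -⟩ := (h.bg.scal h.two_lt l).ex v hv hvZ w hw hwZ
  set y := x * v * x⁻¹ with hy
  have hyW : y ∈ W l := by
    have h1 := h.bg.fix hxP hxC l
    rw [← h1]
    exact ⟨v, hv, rfl⟩
  have htW : t * y * t⁻¹ ∈ W l := (mem_normalizer_iff.1 (h.T_norm_W j l ht) y).1 hyW
  have hbcom : ∀ b ∈ B, ∀ u ∈ W l, b * u * b⁻¹ * u⁻¹ ∈ Z l := fun b hb u hu => (h.bg.fr.blk l).com b hb u hu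
  have hbZ : ∀ b ∈ B, ∀ z ∈ Z l, b * z = z * b := fun b hb z hz => (h.bg.fr.blk l).cZ b hb z hz
  -- `[b, t y t⁻¹] = [b, y]`
  have key : ∀ b ∈ B, b * (t * y * t⁻¹) * b⁻¹ * (t * y * t⁻¹)⁻¹ = b * y * b⁻¹ * y⁻¹ := by
    intro b hb
    have hb' : t⁻¹ * b * t ∈ B := (mem_normalizer_iff''.1 (h.T_norm_B j ht) b).1 hb
    have hb'' : t⁻¹ * b * t ∈ B := hb'
    have e1 : b * (t * y * t⁻¹) * b⁻¹ * (t * y * t⁻¹)⁻¹ =
        t * ((t⁻¹ * b * t) * y * (t⁻¹ * b * t)⁻¹ * y⁻¹) * t⁻¹ := by group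
    rw [e1, htZ ht (hbcom _ hb' y hyW), mul_inv_cancel_right, hy, hx _ hb' v hv, hx _ hb v hv]
    congr 2
    -- `[t⁻¹ b t, v] = [b, v]`
    obtain ⟨c, hc1, hc2⟩ : ∃ c ∈ Z l, t * v * t⁻¹ = c * v := ⟨_, hvT t ht, by group⟩
    have e2 : (t⁻¹ * b * t) * v * (t⁻¹ * b * t)⁻¹ * v⁻¹ =
        t⁻¹ * (b * (t * v * t⁻¹) * b⁻¹ * (t * v * t⁻¹)⁻¹) * t := by group
    have e3 : b * (c * v) * b⁻¹ * (c * v)⁻¹ = b * v * b⁻¹ * v⁻¹ := by
      have h1 : b * (c * v) * b⁻¹ * (c * v)⁻¹ = (b * c) * v * b⁻¹ * v⁻¹ * c⁻¹ := by group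
      have h2 : c * (b * v * b⁻¹ * v⁻¹) = (b * v * b⁻¹ * v⁻¹) * c := hc (hZW hc1) (hZW (hbcom b hb v hv))
      rw [h1, hbZ b hb c hc1]
      calc c * b * v * b⁻¹ * v⁻¹ * c⁻¹ = c * (b * v * b⁻¹ * v⁻¹) * c⁻¹ := by group
        _ = b * v * b⁻¹ * v⁻¹ := by rw [h2]; group
    rw [e2, hc2, e3]
    have h4 := htZ ht (hbcom b hb v hv)
    rw [mul_assoc, ← h4]
    group
  -- `d = [t, y]` commutes with `B`
  have hd : t * y * t⁻¹ * y⁻¹ ∈ Z l := by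
    refine (h.bg.fr.blk l).toMd.mem_Z_iff.2 ⟨mul_mem htW (inv_mem hyW), fun b hb => ?_⟩
    have h1 := key b hb
    have hby : b * y * b⁻¹ ∈ W l := (h.bg.fr.blk l).BV hb hyW
    have h2 : b * (t * y * t⁻¹) * b⁻¹ = (b * y * b⁻¹ * y⁻¹) * (t * y * t⁻¹) := by rw [← h1]; group
    have h3 : b * (t * y * t⁻¹ * y⁻¹) * b⁻¹ = t * y * t⁻¹ * y⁻¹ := by
      have e : b * (t * y * t⁻¹ * y⁻¹) * b⁻¹ = b * (t * y * t⁻¹) * b⁻¹ * (b * y * b⁻¹)⁻¹ := by group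
      have h4 : (b * y * b⁻¹ * y⁻¹) * (t * y * t⁻¹) = (t * y * t⁻¹) * (b * y * b⁻¹ * y⁻¹) :=
        hc (mul_mem hby (inv_mem hyW)) htW
      have h5 : y⁻¹ * (b * y * b⁻¹)⁻¹ = (b * y * b⁻¹)⁻¹ * y⁻¹ := hc (inv_mem hyW) (inv_mem hby)
      rw [e, h2, h4]
      calc t * y * t⁻¹ * (b * y * b⁻¹ * y⁻¹) * (b * y * b⁻¹)⁻¹
          = t * y * t⁻¹ * (b * y * b⁻¹) * (y⁻¹ * (b * y * b⁻¹)⁻¹) := by group
        _ = t * y * t⁻¹ * y⁻¹ := by rw [h5]; group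
    exact mul_inv_eq_iff_eq_mul.1 h3
  -- `w = y z`
  have hz : (w⁻¹ * y)⁻¹ ∈ Z l := inv_mem hwv
  set z := (w⁻¹ * y)⁻¹ with hzd
  have hwy : w = y * z := by rw [hzd]; group
  have e5 : t * w * t⁻¹ * w⁻¹ = t * y * t⁻¹ * y⁻¹ := by
    rw [hwy]
    have h1 : t * z * t⁻¹ = z := by rw [htZ ht hz]; group
    calc t * (y * z) * t⁻¹ * (y * z)⁻¹ = t * y * t⁻¹ * (t * z * t⁻¹) * z⁻¹ * y⁻¹ := by group
      _ = t * y * t⁻¹ * y⁻¹ := by rw [h1]; group
  rw [e5]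
  exact hd

/-! ### characteristic 2 -/

theorem char2_of {ι : Type} (A : ι → Subgroup G) (hA : ∀ i, A i ≤ ZJ) {i : ι} (hi : A i ≠ ⊥) :
    centralizer ((⨆ i, A i : Subgroup G) : Set G) ⊓
        centralizer (o2 (centralizer ((⨆ i, A i : Subgroup G) : Set G)) : Set G) ≤
      o2 (centralizer ((⨆ i, A i : Subgroup G) : Set G)) := by
  refine Swap.char2_cent h.bg.hyp.ctx.char2 ?_ ?_
  · exact h.bg.bau_two.to_le ((iSup_le hA).trans (h.bg.fr.ZJV.trans h.bg.fr.VB))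
  · exact fun e => hi (le_bot_iff.1 (e ▸ le_iSup A i))

/-- `Y_j` has characteristic 2 -/
theorem char2 (j : Fin k) : YQ Z j ⊓ centralizer (o2 (YQ Z j) : Set G) ≤ o2 (YQ Z j) := by
  obtain ⟨i, hi⟩ := h.exists_ne j
  rw [YQ_eq_cent]
  exact h.char2_of (fun l : {l : Fin k // l ≠ j} => Z l) (fun l => h.bg.fr.Z_le l) (i := ⟨i, hi⟩) (h.bg.Z_ne i)

/-- there is a third index -/
theorem exists_third (i j : Fin k) : ∃ l, l ≠ i ∧ l ≠ j := by
  have h3 : 3 ≤ Fintype.card (Fin k) := by rw [Fintype.card_fin]; exact h.three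
  by_contra hcon
  push Not at hcon
  have h1 : (Finset.univ : Finset (Fin k)) ⊆ {i, j} := fun l _ => by
    rw [Finset.mem_insert, Finset.mem_singleton]
    by_cases hl : l = i
    · exact Or.inl hl
    · exact Or.inr (hcon l hl)
  have h2 := (Finset.card_le_card h1).trans Finset.card_le_two
  rw [Finset.card_univ] at h2
  omega

/-- `C_ij` has characteristic 2 -/
theorem char2_C (i j : Fin k) : CQ Z i j ⊓ centralizer (o2 (CQ Z i j) : Set G) ≤ o2 (CQ Z i j) := by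
  obtain ⟨l, hl⟩ := h.exists_third i j
  rw [CQ_eq_cent]
  exact h.char2_of (fun l : {l : Fin k // l ≠ i ∧ l ≠ j} => Z l) (fun l => h.bg.fr.Z_le l) (i := ⟨l, hl⟩)
    (h.bg.Z_ne l)

/-- 2-subgroups of `Y_j` over `T_j`: `T_j` is Sylow in every `R` between -/
theorem syl_of {j : Fin k} {R : Subgroup G} (hTR : TY S Z j ≤ R) (hR : R ≤ YQ Z j) : Syl (TY S Z j) R :=
  ⟨hTR, h.T_two j, fun Q hQ h2 hle => (h.syl j).2.2 Q (hQ.trans hR) h2 hle⟩

theorem m_zc {j : Fin k} {m : G} (hm : m ∈ Z j) (hc : TY S Z j ≤ centralizer ({m} : Set G)) : m ∈ zc (TY S Z j) :=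
  mem_zc.2 ⟨h.B_le_T j (h.Z_le_B j hm), h.bg.fr.Vsq (h.bg.fr.ZV j hm),
    fun _ hx => mem_centralizer_singleton_iff.1 (hc hx)⟩

/-! ### `N_j` -/

theorem Z_le_NQ (j : Fin k) : Z j ≤ NQ Z j := le_cls _ _

theorem NQ_norm (j : Fin k) : YQ Z j ≤ normalizer (NQ Z j : Set G) := cls_self_norm _ _

theorem NQ_min {j : Fin k} {M : Subgroup G} (hZ : Z j ≤ M) (hY : YQ Z j ≤ normalizer (M : Set G)) : NQ Z j ≤ M :=
  cls_min hZ hY

theorem W_le_NQ (j : Fin k) : W j ≤ NQ Z j := by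
  obtain ⟨k, hk, hne⟩ := AltQ.exists_ne (FourQ.nb h.bg j)
  rw [← AltQ.sup_eq (FourQ.nb h.bg j) hk hne]
  exact sup_le (h.Z_le_NQ j) (cj_le_cls (h.L_le j hk))

/-- `L j` is transitive on `W j - 1` -/
theorem trL {j : Fin k} {v z : G} (hv : v ∈ W j) (hv1 : v ≠ 1) (hz : z ∈ Z j) (hz1 : z ≠ 1) :
    ∃ l ∈ L j, l * z * l⁻¹ = v := AltQ.trL (FourQ.nb h.bg j) (FourQ.rt h.bg j) hv hv1 hz hz1

/-- **`N_j = ⟨m^{Y_j}⟩`** for `1 ≠ m ∈ Z_j` -/
theorem NQ_eq {j : Fin k} {m : G} (hm : m ∈ Z j) (hm1 : m ≠ 1) : NQ Z j = NoFF.Basic.V (zpowers m) (YQ Z j) := by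
  have hn : YQ Z j ≤ normalizer (NoFF.Basic.V (zpowers m) (YQ Z j) : Set G) := cls_self_norm (zpowers m) (YQ Z j)
  have hm' : m ∈ NoFF.Basic.V (zpowers m) (YQ Z j) := le_cls (zpowers m) (YQ Z j) (mem_zpowers m)
  apply le_antisymm
  · refine NQ_min h (fun z hz => ?_) hn
    by_cases hz1 : z = 1
    · rw [hz1]; exact one_mem _
    obtain ⟨l, hl, rfl⟩ := h.trL ((h.bg.fr.blk j).ZV hz) hz1 hm hm1
    exact (mem_normalizer_iff.1 (hn (h.L_le j hl)) m).1 hm'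
  · refine cls_min ?_ (h.NQ_norm j)
    rw [zpowers_le]
    exact h.Z_le_NQ j hm

theorem NQ_le_zc (j : Fin k) : NQ Z j ≤ zc (o2 (YQ Z j)) := by
  obtain ⟨m, hm, hm1, hmT⟩ := h.exists_m j
  have h1 := MinSimple.VModule.zl_le_zc (h.syl j).1 (h.T_two j) (syl_not_dvd (h.syl j)) (h.char2 j)
  have h2 : m ∈ zl (TY S Z j) (YQ Z j) := MinSimple.VModule.zc_le_zl _ _ (h.m_zc hm hmT)
  refine NQ_min h ?_ ((le_normalizer_o2 _).trans (MinSimple.VModule.normalizer_le_normalizer_zc _))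
  refine le_trans (fun z hz => ?_) h1
  by_cases hz1 : z = 1
  · rw [hz1]; exact one_mem _
  obtain ⟨l, hl, rfl⟩ := h.trL ((h.bg.fr.blk j).ZV hz) hz1 hm hm1
  exact (mem_normalizer_iff.1 (MinSimple.VModule.le_normalizer_zl (TY S Z j) (YQ Z j) (h.L_le j hl)) m).1 h2

theorem NQ_sq {j : Fin k} {x : G} (hx : x ∈ NQ Z j) : x ^ 2 = 1 := (mem_zc.1 (h.NQ_le_zc j hx)).2.1

theorem NQ_le_Q (j : Fin k) : NQ Z j ≤ o2 (YQ Z j) := fun _ hx => (mem_zc.1 (h.NQ_le_zc j hx)).1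

theorem NQ_comm (j : Fin k) : NQ Z j ≤ centralizer (NQ Z j : Set G) := fun x hx =>
  mem_centralizer_iff.2 fun y hy => (mem_zc.1 (h.NQ_le_zc j hx)).2.2 y (h.NQ_le_Q j hy)

theorem NQ_le_Y (j : Fin k) : NQ Z j ≤ YQ Z j := (h.NQ_le_Q j).trans (MinSimple.VModule.o2_le _)

theorem Q_cent (j : Fin k) : o2 (YQ Z j) ≤ centralizer (NQ Z j : Set G) := fun x hx =>
  mem_centralizer_iff.2 fun y hy => ((mem_zc.1 (h.NQ_le_zc j hy)).2.2 x hx).symm

theorem cent_le_D (j : Fin k) : YQ Z j ⊓ centralizer (NQ Z j : Set G) ≤ centralizer (ZJ : Set G) := by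
  rw [← h.stab j]
  exact inf_le_inf_left _ (centralizer_le (h.Z_le_NQ j))

theorem Q_le_D (j : Fin k) : o2 (YQ Z j) ≤ centralizer (ZJ : Set G) :=
  (le_inf (MinSimple.VModule.o2_le _) (h.Q_cent j)).trans (h.cent_le_D j)

theorem Q_le_O (j : Fin k) : o2 (YQ Z j) ≤ o2 (centralizer (ZJ : Set G)) :=
  le_o2 (isPGroup_o2 _) (h.Q_le_D j) ((h.D_le j).trans (le_normalizer_o2 _))

theorem NQ_le_O (j : Fin k) : NQ Z j ≤ o2 (centralizer (ZJ : Set G)) := (h.NQ_le_Q j).trans (h.Q_le_O j)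

theorem NQ_le_B (j : Fin k) : NQ Z j ≤ B := (h.NQ_le_O j).trans h.O_le_B

theorem O_le_Y (j : Fin k) : o2 (centralizer (ZJ : Set G)) ≤ YQ Z j := h.O_le_B.trans (h.B_le_Y j)

/-- **`O₂(Y_j) = O₂(D) ∩ C(N_j)`** -/
theorem Q_eq (j : Fin k) : o2 (YQ Z j) = o2 (centralizer (ZJ : Set G)) ⊓ centralizer (NQ Z j : Set G) := by
  apply le_antisymm
  · exact le_inf (h.Q_le_O j) (h.Q_cent j)
  · set C' : Subgroup G := YQ Z j ⊓ centralizer (NQ Z j : Set G) with hC'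
    have hCD : C' ≤ centralizer (ZJ : Set G) := h.cent_le_D j
    have hCn : YQ Z j ≤ normalizer (C' : Set G) := by
      intro y hy
      rw [mem_normalizer_iff_cj, hC', cj_inf, cj_eq_of_mem_normalizer (Subgroup.le_normalizer hy), cj_centralizer,
        cj_eq_of_mem_normalizer (h.NQ_norm j hy)]
    have h1 : o2 (centralizer (ZJ : Set G)) ⊓ centralizer (NQ Z j : Set G) ≤ o2 C' := by
      refine le_o2 ((isPGroup_o2 _).to_le inf_le_left) (inf_le_inf_right _ ((MinSimple.VModule.o2_le _).trans (h.D_le j))) ?_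
      intro c hc
      rw [mem_normalizer_iff_cj, cj_inf, cj_eq_of_mem_normalizer (le_normalizer_o2 _ (hCD hc)), cj_centralizer,
        cj_eq_of_mem_normalizer (h.NQ_norm j hc.1)]
    refine h1.trans (le_o2 (isPGroup_o2 _) ((MinSimple.VModule.o2_le _).trans inf_le_left) ?_)
    intro y hy
    rw [mem_normalizer_iff_cj, ← pCore_cj, cj_eq_of_mem_normalizer (hCn hy)]

/-! ### `N_{Y_j}(Z_J)` -/

/-- the Frattini argument -/
theorem frat {j : Fin k} {x : G} (hx : x ∈ YQ Z j) (hJ : x ∈ normalizer (ZJ : Set G)) :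
    ∃ d ∈ centralizer (ZJ : Set G), ∃ n ∈ YQ Z j, n ∈ normalizer (B : Set G) ∧ x = d * n := by
  obtain ⟨d, hd, hdy⟩ := FourQ.exists_frattini h.bg hJ
  exact ⟨d⁻¹, inv_mem hd, d * x, mul_mem (h.D_le j hd) hx, hdy, by group⟩

/-- an element of `Y_j` normalising `Z_J` normalises all `Z_l` -/
theorem norm_ZJ {j : Fin k} {x : G} (hx : x ∈ YQ Z j) (hJ : x ∈ normalizer (ZJ : Set G)) (l : Fin k) :
    x ∈ normalizer (Z l : Set G) := by
  obtain ⟨d, hd, n, hn, hnB, rfl⟩ := h.frat hx hJ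
  refine mul_mem ?_ (mem_normalizer_iff_cj.2 (h.fixB hnB hn l).2)
  exact centralizer_le_normalizer _ (centralizer_le (h.bg.fr.Z_le l) hd)

/-- an element of `Y_j` normalising `Z_j` normalises `Z_J` -/
theorem norm_ZJ' {j : Fin k} {x : G} (hx : x ∈ YQ Z j) (hj : x ∈ normalizer (Z j : Set G)) :
    x ∈ normalizer (ZJ : Set G) := by
  rw [mem_normalizer_iff_cj, h.ZJ_eq]
  have h2 : cj x (⨆ l, Z l) = ⨆ l, cj x (Z l) := Subgroup.map_iSup _ _
  rw [h2]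
  congr 1
  funext l
  by_cases hl : l = j
  · rw [hl]; exact mem_normalizer_iff_cj.1 hj
  · exact mem_normalizer_iff_cj.1 (centralizer_le_normalizer _ (YQ_cent hl hx))

/-- **`N_{Y_j}(Z_j)` normalises everything** -/
theorem normZ {j : Fin k} {x : G} (hx : x ∈ YQ Z j) (hj : x ∈ normalizer (Z j : Set G)) :
    (∀ l, x ∈ normalizer (Z l : Set G)) ∧ (∀ i, x ∈ normalizer (YQ Z i : Set G)) ∧
      (∀ i, x ∈ normalizer (NQ Z i : Set G)) ∧ (∀ i i', x ∈ normalizer (CQ Z i i' : Set G)) ∧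
      ∃ d ∈ centralizer (ZJ : Set G), ∃ n ∈ YQ Z j, n ∈ normalizer (B : Set G) ∧ x = d * n := by
  have h1 : ∀ l, x ∈ normalizer (Z l : Set G) := h.norm_ZJ hx (h.norm_ZJ' hx hj)
  have h2 : ∀ l, cj x (Z l) = Z ((Equiv.refl (Fin k)) l) := fun l => mem_normalizer_iff_cj.1 (h1 l)
  refine ⟨h1, fun i => mem_normalizer_iff_cj.2 (cj_YQ h2 i), fun i => mem_normalizer_iff_cj.2 (cj_NQ h2 i),
    fun i i' => ?_, h.frat hx (h.norm_ZJ' hx hj)⟩
  have h3 : ∀ l, x ∈ normalizer (centralizer (Z l : Set G) : Set G) := fun l => centralizer_norm _ (h1 l)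
  rw [mem_normalizer_iff]
  intro g
  constructor
  · intro hg
    refine mem_iInf.2 fun l => ?_
    exact (mem_normalizer_iff.1 (h3 l) g).1 (mem_iInf.1 hg l)
  · intro hg
    refine mem_iInf.2 fun l => ?_
    exact (mem_normalizer_iff.1 (h3 l) g).2 (mem_iInf.1 hg l)

/-- (TI) in `Y_j` -/
theorem cent_m {j : Fin k} {m : G} (hm : m ∈ Z j) (hm1 : m ≠ 1) :
    YQ Z j ⊓ centralizer ({m} : Set G) ≤ normalizer (Z j : Set G) := h.ti j m hm hm1

/-- **`O₂(D) ≤ O₂(C_{Y_j}(m))`** for `1 ≠ m ∈ Z_j` -/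
theorem O_le {j : Fin k} {m : G} (hm : m ∈ Z j) (hm1 : m ≠ 1) :
    o2 (centralizer (ZJ : Set G)) ≤ o2 (YQ Z j ⊓ centralizer ({m} : Set G)) := by
  refine le_o2 (isPGroup_o2 _) (le_inf (h.O_le_Y j) ?_) ?_
  · exact (MinSimple.VModule.o2_le _).trans (FourQ.cent_le h.bg hm)
  · rintro x ⟨hx, hc⟩
    have h1 : x ∈ normalizer (ZJ : Set G) := h.norm_ZJ' hx (h.cent_m hm hm1 ⟨hx, hc⟩)
    have h2 : x ∈ normalizer (centralizer (ZJ : Set G) : Set G) := centralizer_norm _ h1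
    rw [mem_normalizer_iff_cj, ← pCore_cj, mem_normalizer_iff_cj.1 h2]

end FrG

end Cfsg.Agent.Omega.EK3.QG

end

end

-- merged: Cfsg.Agent.Mrg.Omega.EK3.Q.Facts
section

section


/-!
# (E), `k ≥ 3`, `q ≥ 4` (bb #22703, #23165): facts over the frame `FrQ`

* `TY_com` : `T_j` acts trivially on `W l / Z l`, `l ≠ j`;
* `char2`, `char2_C`; `W_le_NQ`, `NQ_norm`, `NQ_eq`, `NQ_le_zc`, `NQ_comm`, `NQ_sq`;
* `cent_le_D`, `Q_le_D`, `Q_eq`, `O_le`;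
* `frat`, `norm_ZJ`, `normZ`.

Several proofs follow helper88's `EK3/InstQ.lean`.
-/

set_option autoImplicit false
set_option linter.unusedSectionVars false
set_option linter.unusedVariables false

namespace Cfsg.Agent.Omega.EK3.Q

open Subgroup Cfsg Cfsg.Agent.ZN.ChoiceBase
open Cfsg.Agent.ZN (jj zj bau zc zl o2)
open Cfsg.Agent.ZN.ChoiceSit (Syl exists_syl syl_conj isPGroup_o2 le_o2 le_normalizer_o2 o2_le_syl syl_not_dvd)
open Cfsg.Agent.Omega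
open Cfsg.Agent.Omega.OM Cfsg.Agent.Omega.OM.Uni
open Cfsg.Agent.Omega.OM.UniPlus (NB)
open Cfsg.Agent.Omega.NO3S.EThree.Frame
open Cfsg.Agent.Omega.NO3S.EMany
open Cfsg.Agent.Omega.Node.MultiOf
open Cfsg.Agent.MinSimple.MinParabolic (IsMinPar)
open scoped Pointwise

universe u

variable {G : Type u} [Group G] {k : ℕ}

namespace FrQ

variable [Finite G] {S : Sylow 2 G} {P K B ZJ : Subgroup G} {L W Z C : Fin k → Subgroup G} {q : ℕ}
  (h : FrQ S P K B ZJ L W Z C q)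
include h

/-! ### `T_j` on `W l / Z l` -/

/-- **`T_j` acts trivially on `W l / Z l`, `l ≠ j`.** -/
theorem TY_com {j l : Fin k} (hl : l ≠ j) {t w : G} (ht : t ∈ TY S Z j) (hw : w ∈ W l) :
    t * w * t⁻¹ * w⁻¹ ∈ Z l := by
  have : Fact (Nat.Prime 2) := ⟨Nat.prime_two⟩
  have hZW : Z l ≤ W l := (h.bg.fr.blk l).ZV
  have hc : ∀ {x y : G}, x ∈ W l → y ∈ W l → x * y = y * x := fun hx hy =>
    h.bg.fr.Vc (h.bg.fr.WV l hx) (h.bg.fr.WV l hy)
  have htZ : ∀ {t z : G}, t ∈ TY S Z j → z ∈ Z l → t * z = z * t := fun ht hz => mem_YQ.1 ht.2 l hl _ hz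
  have hWT : W l ≤ TY S Z j := (h.W_le_B l).trans (h.B_le_T j)
  -- `v ∈ W l - Z l` with `[v, T_j] ≤ Z l`
  obtain ⟨v, hv, hvZ, hvT⟩ : ∃ v ∈ W l, v ∉ Z l ∧ ∀ t ∈ TY S Z j, t * v * t⁻¹ * v⁻¹ ∈ Z l := by
    set T := TY S Z j with hT
    have hZn : ((Z l).subgroupOf T).Normal := normal_subgroupOf_of_le_normalizer (h.T_norm_Z j l)
    have hWn : ((W l).subgroupOf T).Normal := normal_subgroupOf_of_le_normalizer (h.T_norm_W j l)
    let φ := QuotientGroup.mk' ((Z l).subgroupOf T)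
    have hnil : Group.IsNilpotent (T ⧸ (Z l).subgroupOf T) := ((h.T_two j).to_quotient _).isNilpotent
    have hn2 : (((W l).subgroupOf T).map φ).Normal := hWn.map φ (QuotientGroup.mk'_surjective _)
    have hne : ((W l).subgroupOf T).map φ ≠ ⊥ := by
      intro e
      have h1 : (W l).subgroupOf T ≤ (Z l).subgroupOf T := by
        have h2 := (Subgroup.map_eq_bot_iff _).1 e
        rwa [QuotientGroup.ker_mk'] at h2
      have h3 : W l ≤ Z l := fun x hx => mem_subgroupOf.1 (h1 (mem_subgroupOf.2 (show ((⟨x, hWT hx⟩ : T) : G) ∈ W l from hx)))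
      have h4 := Subgroup.card_le_of_le h3
      have h5 := (h.bg.fr.blk l).card
      have h6 := h.bg.fr.cardZ l
      have h7 := h.four
      rw [h5, h6] at h4
      nlinarith
    have h1 := Lib.NormalAbelian.normal_inf_center_ne_bot (((W l).subgroupOf T).map φ) hne
    obtain ⟨⟨x, hxW, hxc⟩, hx1⟩ := Subgroup.ne_bot_iff_exists_ne_one.1 h1
    obtain ⟨⟨v, hvT⟩, hvW, rfl⟩ := hxW
    have hvW : v ∈ W l := hvW
    refine ⟨v, hvW, fun hvZ => hx1 (Subtype.ext ?_), fun t ht => ?_⟩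
    · exact (QuotientGroup.eq_one_iff _).2 hvZ
    · have h2 := mem_center_iff.1 hxc (φ ⟨t, ht⟩)
      have h3 : φ (⟨t, ht⟩ * ⟨v, hvT⟩ * (⟨t, ht⟩ : T)⁻¹ * (⟨v, hvT⟩ : T)⁻¹) = 1 := by
        rw [map_mul, map_mul, map_mul, map_inv, map_inv, h2]
        group
      have h4 := (QuotientGroup.eq_one_iff (N := (Z l).subgroupOf T) _).1 h3
      exact mem_subgroupOf.1 h4
  by_cases hwZ : w ∈ Z l
  · rw [htZ ht hwZ, mul_inv_cancel_right, mul_inv_cancel]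
    exact one_mem _
  obtain ⟨x, hxP, hxC, hxZ, hx, hwv, -⟩ := (h.bg.scal h.two_lt l).ex v hv hvZ w hw hwZ
  set y := x * v * x⁻¹ with hy
  have hyW : y ∈ W l := by
    have h1 := h.bg.fix hxP hxC l
    rw [← h1]
    exact ⟨v, hv, rfl⟩
  have htW : t * y * t⁻¹ ∈ W l := (mem_normalizer_iff.1 (h.T_norm_W j l ht) y).1 hyW
  have hbcom : ∀ b ∈ B, ∀ u ∈ W l, b * u * b⁻¹ * u⁻¹ ∈ Z l := fun b hb u hu => (h.bg.fr.blk l).com b hb u hu
  have hbZ : ∀ b ∈ B, ∀ z ∈ Z l, b * z = z * b := fun b hb z hz => (h.bg.fr.blk l).cZ b hb z hz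
  -- `[b, t y t⁻¹] = [b, y]`
  have key : ∀ b ∈ B, b * (t * y * t⁻¹) * b⁻¹ * (t * y * t⁻¹)⁻¹ = b * y * b⁻¹ * y⁻¹ := by
    intro b hb
    have hb' : t⁻¹ * b * t ∈ B := (mem_normalizer_iff''.1 (h.T_norm_B j ht) b).1 hb
    have hb'' : t⁻¹ * b * t ∈ B := hb'
    have e1 : b * (t * y * t⁻¹) * b⁻¹ * (t * y * t⁻¹)⁻¹ =
        t * ((t⁻¹ * b * t) * y * (t⁻¹ * b * t)⁻¹ * y⁻¹) * t⁻¹ := by group
    rw [e1, htZ ht (hbcom _ hb' y hyW), mul_inv_cancel_right, hy, hx _ hb' v hv, hx _ hb v hv]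
    congr 2
    -- `[t⁻¹ b t, v] = [b, v]`
    obtain ⟨c, hc1, hc2⟩ : ∃ c ∈ Z l, t * v * t⁻¹ = c * v := ⟨_, hvT t ht, by group⟩
    have e2 : (t⁻¹ * b * t) * v * (t⁻¹ * b * t)⁻¹ * v⁻¹ =
        t⁻¹ * (b * (t * v * t⁻¹) * b⁻¹ * (t * v * t⁻¹)⁻¹) * t := by group
    have e3 : b * (c * v) * b⁻¹ * (c * v)⁻¹ = b * v * b⁻¹ * v⁻¹ := by
      have h1 : b * (c * v) * b⁻¹ * (c * v)⁻¹ = (b * c) * v * b⁻¹ * v⁻¹ * c⁻¹ := by group
      have h2 : c * (b * v * b⁻¹ * v⁻¹) = (b * v * b⁻¹ * v⁻¹) * c := hc (hZW hc1) (hZW (hbcom b hb v hv))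
      rw [h1, hbZ b hb c hc1]
      calc c * b * v * b⁻¹ * v⁻¹ * c⁻¹ = c * (b * v * b⁻¹ * v⁻¹) * c⁻¹ := by group
        _ = b * v * b⁻¹ * v⁻¹ := by rw [h2]; group
    rw [e2, hc2, e3]
    have h4 := htZ ht (hbcom b hb v hv)
    rw [mul_assoc, ← h4]
    group
  -- `d = [t, y]` commutes with `B`
  have hd : t * y * t⁻¹ * y⁻¹ ∈ Z l := by
    refine (h.bg.fr.blk l).toMd.mem_Z_iff.2 ⟨mul_mem htW (inv_mem hyW), fun b hb => ?_⟩
    have h1 := key b hb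
    have hby : b * y * b⁻¹ ∈ W l := (h.bg.fr.blk l).BV hb hyW
    have h2 : b * (t * y * t⁻¹) * b⁻¹ = (b * y * b⁻¹ * y⁻¹) * (t * y * t⁻¹) := by rw [← h1]; group
    have h3 : b * (t * y * t⁻¹ * y⁻¹) * b⁻¹ = t * y * t⁻¹ * y⁻¹ := by
      have e : b * (t * y * t⁻¹ * y⁻¹) * b⁻¹ = b * (t * y * t⁻¹) * b⁻¹ * (b * y * b⁻¹)⁻¹ := by group
      have h4 : (b * y * b⁻¹ * y⁻¹) * (t * y * t⁻¹) = (t * y * t⁻¹) * (b * y * b⁻¹ * y⁻¹) :=
        hc (mul_mem hby (inv_mem hyW)) htW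
      have h5 : y⁻¹ * (b * y * b⁻¹)⁻¹ = (b * y * b⁻¹)⁻¹ * y⁻¹ := hc (inv_mem hyW) (inv_mem hby)
      rw [e, h2, h4]
      calc t * y * t⁻¹ * (b * y * b⁻¹ * y⁻¹) * (b * y * b⁻¹)⁻¹
          = t * y * t⁻¹ * (b * y * b⁻¹) * (y⁻¹ * (b * y * b⁻¹)⁻¹) := by group
        _ = t * y * t⁻¹ * y⁻¹ := by rw [h5]; group
    exact mul_inv_eq_iff_eq_mul.1 h3
  -- `w = y z`
  have hz : (w⁻¹ * y)⁻¹ ∈ Z l := inv_mem hwv
  set z := (w⁻¹ * y)⁻¹ with hzd
  have hwy : w = y * z := by rw [hzd]; group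
  have e5 : t * w * t⁻¹ * w⁻¹ = t * y * t⁻¹ * y⁻¹ := by
    rw [hwy]
    have h1 : t * z * t⁻¹ = z := by rw [htZ ht hz]; group
    calc t * (y * z) * t⁻¹ * (y * z)⁻¹ = t * y * t⁻¹ * (t * z * t⁻¹) * z⁻¹ * y⁻¹ := by group
      _ = t * y * t⁻¹ * y⁻¹ := by rw [h1]; group
  rw [e5]
  exact hd

/-! ### characteristic 2 -/

theorem char2_of {ι : Type} (A : ι → Subgroup G) (hA : ∀ i, A i ≤ ZJ) {i : ι} (hi : A i ≠ ⊥) :
    centralizer ((⨆ i, A i : Subgroup G) : Set G) ⊓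
        centralizer (o2 (centralizer ((⨆ i, A i : Subgroup G) : Set G)) : Set G) ≤
      o2 (centralizer ((⨆ i, A i : Subgroup G) : Set G)) := by
  refine Swap.char2_cent h.bg.hyp.ctx.char2 ?_ ?_
  · exact h.bg.bau_two.to_le ((iSup_le hA).trans (h.bg.fr.ZJV.trans h.bg.fr.VB))
  · exact fun e => hi (le_bot_iff.1 (e ▸ le_iSup A i))

/-- `Y_j` has characteristic 2 -/
theorem char2 (j : Fin k) : YQ Z j ⊓ centralizer (o2 (YQ Z j) : Set G) ≤ o2 (YQ Z j) := by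
  obtain ⟨i, hi⟩ := h.exists_ne j
  rw [YQ_eq_cent]
  exact h.char2_of (fun l : {l : Fin k // l ≠ j} => Z l) (fun l => h.bg.fr.Z_le l) (i := ⟨i, hi⟩) (h.bg.Z_ne i)

/-- there is a third index -/
theorem exists_third (i j : Fin k) : ∃ l, l ≠ i ∧ l ≠ j := by
  have h3 : 3 ≤ Fintype.card (Fin k) := by rw [Fintype.card_fin]; exact h.three
  by_contra hcon
  push Not at hcon
  have h1 : (Finset.univ : Finset (Fin k)) ⊆ {i, j} := fun l _ => by
    rw [Finset.mem_insert, Finset.mem_singleton]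
    by_cases hl : l = i
    · exact Or.inl hl
    · exact Or.inr (hcon l hl)
  have h2 := (Finset.card_le_card h1).trans Finset.card_le_two
  rw [Finset.card_univ] at h2
  omega

/-- `C_ij` has characteristic 2 -/
theorem char2_C (i j : Fin k) : CQ Z i j ⊓ centralizer (o2 (CQ Z i j) : Set G) ≤ o2 (CQ Z i j) := by
  obtain ⟨l, hl⟩ := h.exists_third i j
  rw [CQ_eq_cent]
  exact h.char2_of (fun l : {l : Fin k // l ≠ i ∧ l ≠ j} => Z l) (fun l => h.bg.fr.Z_le l) (i := ⟨l, hl⟩)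
    (h.bg.Z_ne l)

/-- 2-subgroups of `Y_j` over `T_j`: `T_j` is Sylow in every `R` between -/
theorem syl_of {j : Fin k} {R : Subgroup G} (hTR : TY S Z j ≤ R) (hR : R ≤ YQ Z j) : Syl (TY S Z j) R :=
  ⟨hTR, h.T_two j, fun Q hQ h2 hle => (h.syl j).2.2 Q (hQ.trans hR) h2 hle⟩

theorem m_zc {j : Fin k} {m : G} (hm : m ∈ Z j) (hc : TY S Z j ≤ centralizer ({m} : Set G)) : m ∈ zc (TY S Z j) :=
  mem_zc.2 ⟨h.B_le_T j (h.Z_le_B j hm), h.bg.fr.Vsq (h.bg.fr.ZV j hm),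
    fun _ hx => mem_centralizer_singleton_iff.1 (hc hx)⟩

/-! ### `N_j` -/

theorem Z_le_NQ (j : Fin k) : Z j ≤ NQ Z j := le_cls _ _

theorem NQ_norm (j : Fin k) : YQ Z j ≤ normalizer (NQ Z j : Set G) := cls_self_norm _ _

theorem NQ_min {j : Fin k} {M : Subgroup G} (hZ : Z j ≤ M) (hY : YQ Z j ≤ normalizer (M : Set G)) : NQ Z j ≤ M :=
  cls_min hZ hY

theorem W_le_NQ (j : Fin k) : W j ≤ NQ Z j := by
  obtain ⟨k, hk, hne⟩ := AltQ.exists_ne (FourQ.nb h.bg j)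
  rw [← AltQ.sup_eq (FourQ.nb h.bg j) hk hne]
  exact sup_le (h.Z_le_NQ j) (cj_le_cls (h.L_le j hk))

/-- `L j` is transitive on `W j - 1` -/
theorem trL {j : Fin k} {v z : G} (hv : v ∈ W j) (hv1 : v ≠ 1) (hz : z ∈ Z j) (hz1 : z ≠ 1) :
    ∃ l ∈ L j, l * z * l⁻¹ = v := AltQ.trL (FourQ.nb h.bg j) (FourQ.rt h.bg j) hv hv1 hz hz1

/-- **`N_j = ⟨m^{Y_j}⟩`** for `1 ≠ m ∈ Z_j` -/
theorem NQ_eq {j : Fin k} {m : G} (hm : m ∈ Z j) (hm1 : m ≠ 1) : NQ Z j = NoFF.Basic.V (zpowers m) (YQ Z j) := by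
  have hn : YQ Z j ≤ normalizer (NoFF.Basic.V (zpowers m) (YQ Z j) : Set G) := cls_self_norm (zpowers m) (YQ Z j)
  have hm' : m ∈ NoFF.Basic.V (zpowers m) (YQ Z j) := le_cls (zpowers m) (YQ Z j) (mem_zpowers m)
  apply le_antisymm
  · refine NQ_min h (fun z hz => ?_) hn
    by_cases hz1 : z = 1
    · rw [hz1]; exact one_mem _
    obtain ⟨l, hl, rfl⟩ := h.trL ((h.bg.fr.blk j).ZV hz) hz1 hm hm1
    exact (mem_normalizer_iff.1 (hn (h.L_le j hl)) m).1 hm'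
  · refine cls_min ?_ (h.NQ_norm j)
    rw [zpowers_le]
    exact h.Z_le_NQ j hm

theorem NQ_le_zc (j : Fin k) : NQ Z j ≤ zc (o2 (YQ Z j)) := by
  obtain ⟨m, hm, hm1, hmT⟩ := h.exists_m j
  have h1 := MinSimple.VModule.zl_le_zc (h.syl j).1 (h.T_two j) (syl_not_dvd (h.syl j)) (h.char2 j)
  have h2 : m ∈ zl (TY S Z j) (YQ Z j) := MinSimple.VModule.zc_le_zl _ _ (h.m_zc hm hmT)
  refine NQ_min h ?_ ((le_normalizer_o2 _).trans (MinSimple.VModule.normalizer_le_normalizer_zc _))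
  refine le_trans (fun z hz => ?_) h1
  by_cases hz1 : z = 1
  · rw [hz1]; exact one_mem _
  obtain ⟨l, hl, rfl⟩ := h.trL ((h.bg.fr.blk j).ZV hz) hz1 hm hm1
  exact (mem_normalizer_iff.1 (MinSimple.VModule.le_normalizer_zl (TY S Z j) (YQ Z j) (h.L_le j hl)) m).1 h2

theorem NQ_sq {j : Fin k} {x : G} (hx : x ∈ NQ Z j) : x ^ 2 = 1 := (mem_zc.1 (h.NQ_le_zc j hx)).2.1

theorem NQ_le_Q (j : Fin k) : NQ Z j ≤ o2 (YQ Z j) := fun _ hx => (mem_zc.1 (h.NQ_le_zc j hx)).1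

theorem NQ_comm (j : Fin k) : NQ Z j ≤ centralizer (NQ Z j : Set G) := fun x hx =>
  mem_centralizer_iff.2 fun y hy => (mem_zc.1 (h.NQ_le_zc j hx)).2.2 y (h.NQ_le_Q j hy)

theorem NQ_le_Y (j : Fin k) : NQ Z j ≤ YQ Z j := (h.NQ_le_Q j).trans (MinSimple.VModule.o2_le _)

theorem Q_cent (j : Fin k) : o2 (YQ Z j) ≤ centralizer (NQ Z j : Set G) := fun x hx =>
  mem_centralizer_iff.2 fun y hy => ((mem_zc.1 (h.NQ_le_zc j hy)).2.2 x hx).symm

theorem cent_le_D (j : Fin k) : YQ Z j ⊓ centralizer (NQ Z j : Set G) ≤ centralizer (ZJ : Set G) := by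
  rw [← h.stab j]
  exact inf_le_inf_left _ (centralizer_le (h.Z_le_NQ j))

theorem Q_le_D (j : Fin k) : o2 (YQ Z j) ≤ centralizer (ZJ : Set G) :=
  (le_inf (MinSimple.VModule.o2_le _) (h.Q_cent j)).trans (h.cent_le_D j)

theorem Q_le_O (j : Fin k) : o2 (YQ Z j) ≤ o2 (centralizer (ZJ : Set G)) :=
  le_o2 (isPGroup_o2 _) (h.Q_le_D j) ((h.D_le j).trans (le_normalizer_o2 _))

theorem NQ_le_O (j : Fin k) : NQ Z j ≤ o2 (centralizer (ZJ : Set G)) := (h.NQ_le_Q j).trans (h.Q_le_O j)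

theorem NQ_le_B (j : Fin k) : NQ Z j ≤ B := (h.NQ_le_O j).trans h.O_le_B

theorem O_le_Y (j : Fin k) : o2 (centralizer (ZJ : Set G)) ≤ YQ Z j := h.O_le_B.trans (h.B_le_Y j)

/-- **`O₂(Y_j) = O₂(D) ∩ C(N_j)`** -/
theorem Q_eq (j : Fin k) : o2 (YQ Z j) = o2 (centralizer (ZJ : Set G)) ⊓ centralizer (NQ Z j : Set G) := by
  apply le_antisymm
  · exact le_inf (h.Q_le_O j) (h.Q_cent j)
  · set C' : Subgroup G := YQ Z j ⊓ centralizer (NQ Z j : Set G) with hC'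
    have hCD : C' ≤ centralizer (ZJ : Set G) := h.cent_le_D j
    have hCn : YQ Z j ≤ normalizer (C' : Set G) := by
      intro y hy
      rw [mem_normalizer_iff_cj, hC', cj_inf, cj_eq_of_mem_normalizer (Subgroup.le_normalizer hy), cj_centralizer,
        cj_eq_of_mem_normalizer (h.NQ_norm j hy)]
    have h1 : o2 (centralizer (ZJ : Set G)) ⊓ centralizer (NQ Z j : Set G) ≤ o2 C' := by
      refine le_o2 ((isPGroup_o2 _).to_le inf_le_left) (inf_le_inf_right _ ((MinSimple.VModule.o2_le _).trans (h.D_le j))) ?_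
      intro c hc
      rw [mem_normalizer_iff_cj, cj_inf, cj_eq_of_mem_normalizer (le_normalizer_o2 _ (hCD hc)), cj_centralizer,
        cj_eq_of_mem_normalizer (h.NQ_norm j hc.1)]
    refine h1.trans (le_o2 (isPGroup_o2 _) ((MinSimple.VModule.o2_le _).trans inf_le_left) ?_)
    intro y hy
    rw [mem_normalizer_iff_cj, ← pCore_cj, cj_eq_of_mem_normalizer (hCn hy)]

/-! ### `N_{Y_j}(Z_J)` -/

/-- the Frattini argument -/
theorem frat {j : Fin k} {x : G} (hx : x ∈ YQ Z j) (hJ : x ∈ normalizer (ZJ : Set G)) :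
    ∃ d ∈ centralizer (ZJ : Set G), ∃ n ∈ YQ Z j, n ∈ normalizer (B : Set G) ∧ x = d * n := by
  obtain ⟨d, hd, hdy⟩ := FourQ.exists_frattini h.bg hJ
  exact ⟨d⁻¹, inv_mem hd, d * x, mul_mem (h.D_le j hd) hx, hdy, by group⟩

/-- an element of `Y_j` normalising `Z_J` normalises all `Z_l` -/
theorem norm_ZJ {j : Fin k} {x : G} (hx : x ∈ YQ Z j) (hJ : x ∈ normalizer (ZJ : Set G)) (l : Fin k) :
    x ∈ normalizer (Z l : Set G) := by
  obtain ⟨d, hd, n, hn, hnB, rfl⟩ := h.frat hx hJ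
  refine mul_mem ?_ (mem_normalizer_iff_cj.2 (h.fixB hnB hn l).2)
  exact centralizer_le_normalizer _ (centralizer_le (h.bg.fr.Z_le l) hd)

/-- an element of `Y_j` normalising `Z_j` normalises `Z_J` -/
theorem norm_ZJ' {j : Fin k} {x : G} (hx : x ∈ YQ Z j) (hj : x ∈ normalizer (Z j : Set G)) :
    x ∈ normalizer (ZJ : Set G) := by
  rw [mem_normalizer_iff_cj, h.ZJ_eq]
  have h2 : cj x (⨆ l, Z l) = ⨆ l, cj x (Z l) := Subgroup.map_iSup _ _
  rw [h2]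
  congr 1
  funext l
  by_cases hl : l = j
  · rw [hl]; exact mem_normalizer_iff_cj.1 hj
  · exact mem_normalizer_iff_cj.1 (centralizer_le_normalizer _ (YQ_cent hl hx))

/-- **`N_{Y_j}(Z_j)` normalises everything** -/
theorem normZ {j : Fin k} {x : G} (hx : x ∈ YQ Z j) (hj : x ∈ normalizer (Z j : Set G)) :
    (∀ l, x ∈ normalizer (Z l : Set G)) ∧ (∀ i, x ∈ normalizer (YQ Z i : Set G)) ∧
      (∀ i, x ∈ normalizer (NQ Z i : Set G)) ∧ (∀ i i', x ∈ normalizer (CQ Z i i' : Set G)) ∧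
      ∃ d ∈ centralizer (ZJ : Set G), ∃ n ∈ YQ Z j, n ∈ normalizer (B : Set G) ∧ x = d * n := by
  have h1 : ∀ l, x ∈ normalizer (Z l : Set G) := h.norm_ZJ hx (h.norm_ZJ' hx hj)
  have h2 : ∀ l, cj x (Z l) = Z ((Equiv.refl (Fin k)) l) := fun l => mem_normalizer_iff_cj.1 (h1 l)
  refine ⟨h1, fun i => mem_normalizer_iff_cj.2 (cj_YQ h2 i), fun i => mem_normalizer_iff_cj.2 (cj_NQ h2 i),
    fun i i' => ?_, h.frat hx (h.norm_ZJ' hx hj)⟩
  have h3 : ∀ l, x ∈ normalizer (centralizer (Z l : Set G) : Set G) := fun l => centralizer_norm _ (h1 l)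
  rw [mem_normalizer_iff]
  intro g
  constructor
  · intro hg
    refine mem_iInf.2 fun l => ?_
    exact (mem_normalizer_iff.1 (h3 l) g).1 (mem_iInf.1 hg l)
  · intro hg
    refine mem_iInf.2 fun l => ?_
    exact (mem_normalizer_iff.1 (h3 l) g).2 (mem_iInf.1 hg l)

/-- (TI) in `Y_j` -/
theorem cent_m {j : Fin k} {m : G} (hm : m ∈ Z j) (hm1 : m ≠ 1) :
    YQ Z j ⊓ centralizer ({m} : Set G) ≤ normalizer (Z j : Set G) := by
  obtain ⟨i, hi⟩ := h.exists_ne j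
  rintro x ⟨hx, hc⟩
  exact h.ti j i hi.symm m hm hm1 ⟨hc, YQ_le_left Z j i hx⟩

/-- **`O₂(D) ≤ O₂(C_{Y_j}(m))`** for `1 ≠ m ∈ Z_j` -/
theorem O_le {j : Fin k} {m : G} (hm : m ∈ Z j) (hm1 : m ≠ 1) :
    o2 (centralizer (ZJ : Set G)) ≤ o2 (YQ Z j ⊓ centralizer ({m} : Set G)) := by
  refine le_o2 (isPGroup_o2 _) (le_inf (h.O_le_Y j) ?_) ?_
  · exact (MinSimple.VModule.o2_le _).trans (FourQ.cent_le h.bg hm)
  · rintro x ⟨hx, hc⟩
    have h1 : x ∈ normalizer (ZJ : Set G) := h.norm_ZJ' hx (h.cent_m hm hm1 ⟨hx, hc⟩)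
    have h2 : x ∈ normalizer (centralizer (ZJ : Set G) : Set G) := centralizer_norm _ h1
    rw [mem_normalizer_iff_cj, ← pCore_cj, mem_normalizer_iff_cj.1 h2]

end FrQ

end Cfsg.Agent.Omega.EK3.Q

end

section


/-!
# (E), `k ≥ 3`, `q ≥ 4` (bb #22703, #23165, #23990): `(NO)` over the frame `FrQ`

`FrQ.noOn` : `|A : C_A(N_j)| ≤ |N_j : C_{N_j}(A)|` for the elementary abelian subgroups `A` of `O₂(D)`.
-/

set_option autoImplicit false
set_option linter.unusedSectionVars false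

namespace Cfsg.Agent.Omega.EK3.Q

open Subgroup Cfsg Cfsg.Agent.ZN.ChoiceBase
open Cfsg.Agent.ZN (jj zj bau zc zl o2)
open Cfsg.Agent.ZN.ChoiceSit (Syl exists_syl syl_conj isPGroup_o2 le_o2 le_normalizer_o2 o2_le_syl syl_not_dvd)
open Cfsg.Agent.Omega
open Cfsg.Agent.Omega.OM
open Cfsg.Agent.Omega.NO3S.EThree.Frame
open Cfsg.Agent.Omega.NO3S.EMany
open Cfsg.Agent.Omega.ML.Final (MLK)

universe u

variable {G : Type u} [Group G] {k : ℕ}

namespace FrQ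

variable [Finite G] {S : Sylow 2 G} {P K B ZJ : Subgroup G} {L W Z C : Fin k → Subgroup G} {q : ℕ}
  (h : FrQ S P K B ZJ L W Z C q)
include h

/-- **(NO)** at `m`, over `T_j` -/
theorem no_m (hML : MLK.{u, u}) {j : Fin k} {m : G} (hm : m ∈ Z j)
    (hm1 : m ≠ 1) (hmT : TY S Z j ≤ centralizer ({m} : Set G)) (hK : IsKGroup (YQ Z j)) {A : Subgroup G}
    (hA : A ≤ o2 (YQ Z j ⊓ centralizer ({m} : Set G))) (hA2 : ∀ a ∈ A, a ^ 2 = 1) :
    (centralizer (NQ Z j : Set G)).relIndex A ≤ (centralizer (A : Set G)).relIndex (NQ Z j) := by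
  have hmain : (A ⊓ centralizer (NQ Z j : Set G)).relIndex A ≤
      (NQ Z j ⊓ centralizer (A : Set G)).relIndex (NQ Z j) := by
    refine hML.grp (C := YQ Z j) (W := NQ Z j) (Y := ⊥) (T := TY S Z j)
      (Q := o2 (YQ Z j ⊓ centralizer ({m} : Set G))) (A := A) (w := m) hK
      { nW := h.NQ_norm j
        nY := fun x _ => by
          rw [mem_normalizer_iff]
          intro y
          rw [mem_bot, mem_bot, conj_eq_one_iff]
        YW := bot_le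
        WY := fun x _ => by
          rw [mem_normalizer_iff]
          intro y
          rw [mem_bot, mem_bot, conj_eq_one_iff]
        sq := fun x hx => by
          rw [mem_bot, ← pow_two]
          exact h.NQ_sq hx
        mem := h.Z_le_NQ j hm
        gen := fun U hmU _ hU => by
          refine h.NQ_min (fun z hz => ?_) hU
          by_cases hz1 : z = 1
          · rw [hz1]; exact one_mem _
          obtain ⟨l, hl, e⟩ := h.trL ((h.mul.bg.fr.blk j).ZV hz) hz1 hm hm1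
          rw [← e]
          exact (mem_normalizer_iff.1 (hU (h.L_le j hl)) m).1 hmU
        TC := (h.syl j).1
        two := (h.syl j).2.1
        odd := syl_not_dvd (h.syl j)
        fixT := fun t ht => by
          rw [mem_bot, mem_centralizer_singleton_iff.1 (hmT ht)]; group
        QC := (MinSimple.VModule.o2_le _).trans inf_le_left
        Q2 := isPGroup_o2 _
        fixQ := fun x hx => by
          rw [mem_bot, mem_centralizer_singleton_iff.1 (MinSimple.VModule.o2_le _ hx).2]; group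
        nrmQ := fun g hg hgm x hx => by
          rw [mem_bot, mul_inv_eq_one] at hgm
          have h1 : g ∈ YQ Z j ⊓ centralizer ({m} : Set G) := by
            refine mem_inf.2 ⟨hg, ?_⟩
            rw [mem_centralizer_singleton_iff]
            exact mul_inv_eq_iff_eq_mul.1 hgm
          exact (mem_normalizer_iff.1 (le_normalizer_o2 _ h1) x).1 hx
        AQ := hA
        Asq := fun a ha x hx => by
          have h1 := hA2 a ha
          rw [mem_bot]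
          calc a * (a * x * a⁻¹) * a⁻¹ * x⁻¹ = a ^ 2 * x * (a ^ 2)⁻¹ * x⁻¹ := by rw [pow_two]; group
            _ = 1 := by rw [h1]; group } ?_ ?_
    · intro a
      rw [mem_inf]
      refine and_congr_right fun ha => ?_
      rw [mem_centralizer_iff]
      refine forall₂_congr fun x hx => ?_
      rw [mem_bot, mul_inv_eq_one, mul_inv_eq_iff_eq_mul, eq_comm]
    · intro x
      rw [mem_inf]
      refine and_congr_right fun hx => ?_
      rw [mem_centralizer_iff]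
      refine forall₂_congr fun a ha => ?_
      rw [mem_bot, mul_inv_eq_one, mul_inv_eq_iff_eq_mul]
  rwa [inf_relIndex_left, inf_relIndex_left] at hmain

/-- **(NO)** for `A ≤ O₂(D)` -/
theorem no_D (hML : MLK.{u, u}) {j : Fin k} (hK : IsKGroup (YQ Z j)) {A : Subgroup G}
    (hA : A ≤ o2 (centralizer (ZJ : Set G))) (hA2 : ∀ a ∈ A, a ^ 2 = 1) :
    (centralizer (NQ Z j : Set G)).relIndex A ≤ (centralizer (A : Set G)).relIndex (NQ Z j) := by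
  obtain ⟨m, hm, hm1, hmT⟩ := h.exists_m j
  exact h.no_m hML hm hm1 hmT hK (hA.trans (h.O_le hm hm1)) hA2

/-- **(NO)** in the form of `StarE.Fr.no` -/
theorem noOn (hML : MLK.{u, u}) {j : Fin k} (hK : IsKGroup (YQ Z j)) :
    Rank.NoOn (o2 (centralizer (ZJ : Set G))) (NQ Z j) := fun _ hA hAO => h.no_D hML hK hAO hA.2

end FrQ

end Cfsg.Agent.Omega.EK3.Q

end

section


/-!
# (E), `k ≥ 3`, `q ≥ 4` (bb #22703, #23165, #23990): `(NO)` over the frame `FrG`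

`FrG.noOn` : `|A : C_A(N_j)| ≤ |N_j : C_{N_j}(A)|` for the elementary abelian subgroups `A` of `O₂(D)`.

Port of `EK3/Q/NoOn.lean` to the frame `FrG` over `MulG`.
-/

set_option autoImplicit false
set_option linter.unusedSectionVars false

namespace Cfsg.Agent.Omega.EK3.QG

open Subgroup Cfsg Cfsg.Agent.ZN.ChoiceBase
open Cfsg.Agent.ZN (jj zj bau zc zl o2)
open Cfsg.Agent.ZN.ChoiceSit (Syl exists_syl syl_conj isPGroup_o2 le_o2 le_normalizer_o2 o2_le_syl syl_not_dvd)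
open Cfsg.Agent.Omega
open Cfsg.Agent.Omega.OM
open Cfsg.Agent.Omega.NO3S.EThree.Frame
open Cfsg.Agent.Omega.NO3S.EMany
open Cfsg.Agent.Omega.ML.Final (MLK)

open Cfsg.Agent.Omega.Node.MulG
open Cfsg.Agent.Omega.EK3.Q

universe u

variable {G : Type u} [Group G] {k : ℕ}

namespace FrG

variable [Finite G] {S : Sylow 2 G} {P K B ZJ : Subgroup G} {L W Z C : Fin k → Subgroup G} {q : ℕ}
  (h : FrG S P K B ZJ L W Z C q)
include h

/-- **(NO)** at `m`, over `T_j` -/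
theorem no_m (hML : MLK.{u, u}) {j : Fin k} {m : G} (hm : m ∈ Z j)
    (hm1 : m ≠ 1) (hmT : TY S Z j ≤ centralizer ({m} : Set G)) (hK : IsKGroup (YQ Z j)) {A : Subgroup G}
    (hA : A ≤ o2 (YQ Z j ⊓ centralizer ({m} : Set G))) (hA2 : ∀ a ∈ A, a ^ 2 = 1) :
    (centralizer (NQ Z j : Set G)).relIndex A ≤ (centralizer (A : Set G)).relIndex (NQ Z j) := by
  have hmain : (A ⊓ centralizer (NQ Z j : Set G)).relIndex A ≤
      (NQ Z j ⊓ centralizer (A : Set G)).relIndex (NQ Z j) := by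
    refine hML.grp (C := YQ Z j) (W := NQ Z j) (Y := ⊥) (T := TY S Z j)
      (Q := o2 (YQ Z j ⊓ centralizer ({m} : Set G))) (A := A) (w := m) hK
      { nW := h.NQ_norm j
        nY := fun x _ => by
          rw [mem_normalizer_iff]
          intro y
          rw [mem_bot, mem_bot, conj_eq_one_iff]
        YW := bot_le
        WY := fun x _ => by
          rw [mem_normalizer_iff]
          intro y
          rw [mem_bot, mem_bot, conj_eq_one_iff]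
        sq := fun x hx => by
          rw [mem_bot, ← pow_two]
          exact h.NQ_sq hx
        mem := h.Z_le_NQ j hm
        gen := fun U hmU _ hU => by
          refine h.NQ_min (fun z hz => ?_) hU
          by_cases hz1 : z = 1
          · rw [hz1]; exact one_mem _
          obtain ⟨l, hl, e⟩ := h.trL ((h.mul.bg.fr.blk j).ZV hz) hz1 hm hm1
          rw [← e]
          exact (mem_normalizer_iff.1 (hU (h.L_le j hl)) m).1 hmU
        TC := (h.syl j).1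
        two := (h.syl j).2.1
        odd := syl_not_dvd (h.syl j)
        fixT := fun t ht => by
          rw [mem_bot, mem_centralizer_singleton_iff.1 (hmT ht)]; group
        QC := (MinSimple.VModule.o2_le _).trans inf_le_left
        Q2 := isPGroup_o2 _
        fixQ := fun x hx => by
          rw [mem_bot, mem_centralizer_singleton_iff.1 (MinSimple.VModule.o2_le _ hx).2]; group
        nrmQ := fun g hg hgm x hx => by
          rw [mem_bot, mul_inv_eq_one] at hgm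
          have h1 : g ∈ YQ Z j ⊓ centralizer ({m} : Set G) := by
            refine mem_inf.2 ⟨hg, ?_⟩
            rw [mem_centralizer_singleton_iff]
            exact mul_inv_eq_iff_eq_mul.1 hgm
          exact (mem_normalizer_iff.1 (le_normalizer_o2 _ h1) x).1 hx
        AQ := hA
        Asq := fun a ha x hx => by
          have h1 := hA2 a ha
          rw [mem_bot]
          calc a * (a * x * a⁻¹) * a⁻¹ * x⁻¹ = a ^ 2 * x * (a ^ 2)⁻¹ * x⁻¹ := by rw [pow_two]; group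
            _ = 1 := by rw [h1]; group } ?_ ?_
    · intro a
      rw [mem_inf]
      refine and_congr_right fun ha => ?_
      rw [mem_centralizer_iff]
      refine forall₂_congr fun x hx => ?_
      rw [mem_bot, mul_inv_eq_one, mul_inv_eq_iff_eq_mul, eq_comm]
    · intro x
      rw [mem_inf]
      refine and_congr_right fun hx => ?_
      rw [mem_centralizer_iff]
      refine forall₂_congr fun a ha => ?_
      rw [mem_bot, mul_inv_eq_one, mul_inv_eq_iff_eq_mul]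
  rwa [inf_relIndex_left, inf_relIndex_left] at hmain

/-- **(NO)** for `A ≤ O₂(D)` -/
theorem no_D (hML : MLK.{u, u}) {j : Fin k} (hK : IsKGroup (YQ Z j)) {A : Subgroup G}
    (hA : A ≤ o2 (centralizer (ZJ : Set G))) (hA2 : ∀ a ∈ A, a ^ 2 = 1) :
    (centralizer (NQ Z j : Set G)).relIndex A ≤ (centralizer (A : Set G)).relIndex (NQ Z j) := by
  obtain ⟨m, hm, hm1, hmT⟩ := h.exists_m j
  exact h.no_m hML hm hm1 hmT hK (hA.trans (h.O_le hm hm1)) hA2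

/-- **(NO)** in the form of `StarE.Fr.no` -/
theorem noOn (hML : MLK.{u, u}) {j : Fin k} (hK : IsKGroup (YQ Z j)) :
    Rank.NoOn (o2 (centralizer (ZJ : Set G))) (NQ Z j) := fun _ hA hAO => h.no_D hML hK hAO hA.2

end FrG

end Cfsg.Agent.Omega.EK3.QG

end

end

-- merged: Cfsg.Agent.Mrg.Omega.EK3.QG.LocQ
section

section


/-!
# (E), `k ≥ 3`, `q ≥ 4` (bb #22703 (0'), #23165 (C)): the local groups `C_ij` over the frame `FrG`

`E_ij = EQ Z ZJ i j = ⟨ZJ^{C_ij}⟩`, `WQ Z W i j = ⟨W_i^{Y_j}⟩`.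

Port of `EK3/Q/LocQ.lean` to the frame `FrG` over `MulG`.
-/

set_option autoImplicit false
set_option linter.unusedSectionVars false

namespace Cfsg.Agent.Omega.EK3.QG

open Subgroup Cfsg Cfsg.Agent.ZN.ChoiceBase
open Cfsg.Agent.ZN (zc zl o2)
open Cfsg.Agent.Omega.NO3S.EThree.Frame
open Cfsg.Agent.Omega.Node.MultiOf
open Cfsg.Agent.Omega.NoFF.Basic (V)

open Cfsg.Agent.Omega.Node.MulG
open Cfsg.Agent.Omega.EK3.Q

universe u

variable {G : Type u} [Group G] {k : ℕ}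

namespace FrG

variable [Finite G] {S : Sylow 2 G} {P K B ZJ : Subgroup G} {L W Z C : Fin k → Subgroup G} {q : ℕ}
  (h : FrG S P K B ZJ L W Z C q)
include h

/-- a third index -/
theorem third (i j : Fin k) : ∃ l, l ≠ i ∧ l ≠ j := by
  by_contra hcon
  push Not at hcon
  have h1 : ∀ l : Fin k, l = i ∨ l = j := fun l => by
    by_cases hl : l = i
    · exact Or.inl hl
    · exact Or.inr (hcon l hl)
  have h2 : (Finset.univ : Finset (Fin k)) ⊆ {i, j} := fun l _ => by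
    rcases h1 l with rfl | rfl <;> simp
  have h3 := Finset.card_le_card h2
  rw [Finset.card_univ, Fintype.card_fin] at h3
  have h4 : ({i, j} : Finset (Fin k)).card ≤ 2 := Finset.card_le_two
  exact absurd h.three (by omega)

/-- **`C_ij` has characteristic 2** -/
theorem char2_CQ (i j : Fin k) : CQ Z i j ⊓ centralizer (o2 (CQ Z i j) : Set G) ≤ o2 (CQ Z i j) := by
  obtain ⟨l, hi, hj⟩ := h.third i j
  exact Loc.char2_CI h.mul.bg hi hj

theorem o2CQ_cent_left (i j : Fin k) : o2 (CQ Z i j) ≤ centralizer (W i : Set G) :=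
  Loc.o2CI_cent_left h.mul.bg i j

theorem o2CQ_cent_right (i j : Fin k) : o2 (CQ Z i j) ≤ centralizer (W j : Set G) :=
  Loc.o2CI_cent_right h.mul.bg i j

/-- `O₂(C_ij) ≤ D` -/
theorem o2CQ_le_D (i j : Fin k) : o2 (CQ Z i j) ≤ centralizer (ZJ : Set G) := Loc.o2CI_le_D h.mul.bg i j

/-- **`O₂(C_ij) ≤ B`** -/
theorem o2CQ_le_B (i j : Fin k) : o2 (CQ Z i j) ≤ B := Loc.o2CI_le_B h.mul.bg i j

/-- `O₂(C_ij) ≤ O₂(D)` -/
theorem o2CQ_le_O (i j : Fin k) : o2 (CQ Z i j) ≤ o2 (centralizer (ZJ : Set G)) := Loc.o2CI_le_O h.mul.bg i j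

/-- `O₂(C_ij) ≤ O₂(Y_i)` -/
theorem o2CQ_le_left (i j : Fin k) : o2 (CQ Z i j) ≤ o2 (YQ Z i) := Loc.o2CI_le_left h.mul.bg i j

/-- `O₂(C_ij) ≤ O₂(Y_j)` -/
theorem o2CQ_le_right (i j : Fin k) : o2 (CQ Z i j) ≤ o2 (YQ Z j) := Loc.o2CI_le_right h.mul.bg i j

theorem ZJ_le_zcCQ (i j : Fin k) : ZJ ≤ zc (o2 (CQ Z i j)) := by
  obtain ⟨l, hi, hj⟩ := h.third i j
  exact Loc.ZJ_le_zc h.mul.bg hi hj

/-- **`E_ij ≤ Ω₁Z(O₂(C_ij))`** -/
theorem EQ_le_zc (i j : Fin k) : EQ Z ZJ i j ≤ zc (o2 (CQ Z i j)) := by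
  obtain ⟨l, hi, hj⟩ := h.third i j
  exact Loc.EI_le h.mul.bg hi hj

theorem EQ_le_o2 (i j : Fin k) : EQ Z ZJ i j ≤ o2 (CQ Z i j) := (h.EQ_le_zc i j).trans (ZN.ChoiceSit.zc_le _)

theorem EQ_comm {i j : Fin k} {x y : G} (hx : x ∈ EQ Z ZJ i j) (hy : y ∈ EQ Z ZJ i j) : x * y = y * x :=
  (mem_zc.1 (h.EQ_le_zc i j hy)).2.2 x (h.EQ_le_o2 i j hx)

theorem EQ_sq {i j : Fin k} {x : G} (hx : x ∈ EQ Z ZJ i j) : x ^ 2 = 1 := (mem_zc.1 (h.EQ_le_zc i j hx)).2.1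

theorem EQ_ab (i j : Fin k) : EQ Z ZJ i j ≤ centralizer (EQ Z ZJ i j : Set G) := fun _ hx =>
  mem_centralizer_iff.2 fun _ hy => h.EQ_comm hy hx

theorem EQ_le_B (i j : Fin k) : EQ Z ZJ i j ≤ B := (h.EQ_le_o2 i j).trans (h.o2CQ_le_B i j)

theorem EQ_le_D (i j : Fin k) : EQ Z ZJ i j ≤ centralizer (ZJ : Set G) := (h.EQ_le_o2 i j).trans (h.o2CQ_le_D i j)

theorem EQ_le_O (i j : Fin k) : EQ Z ZJ i j ≤ o2 (centralizer (ZJ : Set G)) :=
  (h.EQ_le_o2 i j).trans (h.o2CQ_le_O i j)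

theorem EQ_le_left (i j : Fin k) : EQ Z ZJ i j ≤ o2 (YQ Z i) := (h.EQ_le_o2 i j).trans (h.o2CQ_le_left i j)

theorem EQ_le_right (i j : Fin k) : EQ Z ZJ i j ≤ o2 (YQ Z j) := (h.EQ_le_o2 i j).trans (h.o2CQ_le_right i j)

theorem EQ_cent_left (i j : Fin k) : EQ Z ZJ i j ≤ centralizer (W i : Set G) :=
  (h.EQ_le_o2 i j).trans (h.o2CQ_cent_left i j)

theorem EQ_cent_right (i j : Fin k) : EQ Z ZJ i j ≤ centralizer (W j : Set G) :=
  (h.EQ_le_o2 i j).trans (h.o2CQ_cent_right i j)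

theorem NQ_le_EQ_left (i j : Fin k) : NQ Z i ≤ EQ Z ZJ i j := Loc.N_le_EI_left h.mul.bg i j

theorem NQ_le_EQ_right (i j : Fin k) : NQ Z j ≤ EQ Z ZJ i j := Loc.N_le_EI_right h.mul.bg i j

theorem W_le_EQ_left (i j : Fin k) : W i ≤ EQ Z ZJ i j := Loc.W_le_EI_left h.mul.bg i j

theorem W_le_EQ_right (i j : Fin k) : W j ≤ EQ Z ZJ i j := Loc.W_le_EI_right h.mul.bg i j

/-- `W_ij ≤ E_ij` -/
theorem WQ_le_EQ (i j : Fin k) : WQ Z W i j ≤ EQ Z ZJ i j := Loc.WW_le_EI h.mul.bg i j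

/-- `W_ji ≤ E_ij` -/
theorem WQ_le_EQ' (i j : Fin k) : WQ Z W j i ≤ EQ Z ZJ i j := Loc.WW_le_EI' h.mul.bg i j

/-- **`N_j ≤ O₂(P)`** -/
theorem NQ_le_o2P (j : Fin k) : NQ Z j ≤ o2 P := Loc.N_le_Q h.mul.bg h.third j

/-- `O₂(Y_j)` centralises `W j` -/
theorem o2Y_cent (j : Fin k) : o2 (YQ Z j) ≤ centralizer (W j : Set G) := Loc.o2Y_cent h.mul.bg j

theorem o2Y_le_D (j : Fin k) : o2 (YQ Z j) ≤ centralizer (ZJ : Set G) := Loc.o2Y_le_D h.mul.bg j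

/-- **`O₂(Y_j) ≤ B`** -/
theorem o2Y_le_B (j : Fin k) : o2 (YQ Z j) ≤ B := Loc.o2Y_le_B h.mul.bg j

/-- `O₂(Y_j) ≤ O₂(D)` -/
theorem o2Y_le_O (j : Fin k) : o2 (YQ Z j) ≤ o2 (centralizer (ZJ : Set G)) := Loc.o2Y_le_O h.mul.bg j

/-- **`[W_ij, O₂(Y_j)] ≤ Z i`**, `i ≠ j` -/
theorem comm_WQ {i j : Fin k} (hij : i ≠ j) {x w : G} (hx : x ∈ o2 (YQ Z j)) (hw : w ∈ WQ Z W i j) :
    x * w * x⁻¹ * w⁻¹ ∈ Z i := Loc.comm_WW h.mul.bg hij hx hw

end FrG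

end Cfsg.Agent.Omega.EK3.QG

end

section


/-!
# (E), `k ≥ 3`, `q ≥ 4` (bb #22703, #23133, #23990): the output of STAR over the frame `FrG`

`OutQ` : `i ≠ j`, an elementary abelian `F ≤ O₂(D)` which centralises `N_i`, moves `N_j`, is exact on every `M` between `N_j` and
`E_ij`, and is low: `F ≤ O₂(C_{Y_j}(W_i))`.

Port of `EK3/Q/StarI.lean` to the frame `FrG` over `MulG`.
-/

set_option autoImplicit false
set_option linter.unusedSectionVars false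

namespace Cfsg.Agent.Omega.EK3.QG

open Subgroup Cfsg Cfsg.Agent.ZN.ChoiceBase
open Cfsg.Agent.ZN (zc zl o2)
open Cfsg.Agent.Omega.NO3S.EThree
open Cfsg.Agent.Omega.NO3S.EThree.Frame
open Cfsg.Agent.Omega.NO3S.EThree.ExactA (eab_mono eab_iff)
open Cfsg.Agent.Omega.Node.MultiOf
open Cfsg.Agent.Omega.EK3.StarE (EE)
open Cfsg.Agent.Omega.NoFF.Basic (V)

open Cfsg.Agent.Omega.Node.MulG
open Cfsg.Agent.Omega.EK3.Q

universe u

variable {G : Type u} [Group G] {k : ℕ}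

namespace FrG

variable [Finite G] {S : Sylow 2 G} {P K B ZJ : Subgroup G} {L W Z C : Fin k → Subgroup G} {q : ℕ}
  (h : FrG S P K B ZJ L W Z C q)
include h

theorem EE_le_O (i j : Fin k) : EE ZJ (YQ Z i ⊔ YQ Z j) ≤ o2 (centralizer (ZJ : Set G)) :=
  (EE_le_EQ ZJ Z i j).trans (h.EQ_le_O i j)

theorem EE_le_B (i j : Fin k) : EE ZJ (YQ Z i ⊔ YQ Z j) ≤ B := (h.EE_le_O i j).trans h.O_le_B

theorem W_le_NQ' (j : Fin k) : W j ≤ NQ Z j := Loc.W_le_N h.mul.bg j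

theorem WQ_le_EE' (i j : Fin k) : WQ Z W i j ≤ EE ZJ (YQ Z i ⊔ YQ Z j) :=
  WQ_le_EE (h.mul.bg.fr.Z_le i) (h.W_le_NQ' i) le_rfl

theorem NQ_le_EE' (i j : Fin k) : NQ Z j ≤ EE ZJ (YQ Z i ⊔ YQ Z j) :=
  NQ_le_EE (h.mul.bg.fr.Z_le j) le_sup_right

/-- **STAR for `q ≥ 4`.** -/
theorem exists_out {L' : Fin k → Subgroup G}
    (hF : StarE.Fr (o2 (centralizer (ZJ : Set G))) (centralizer (ZJ : Set G)) ZJ (YQ Z) (NQ Z) L')
    (hO : o2 (centralizer (ZJ : Set G)) ≠ ⊥)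
    (hLC : ∀ i j, i ≠ j → L' i ≤ normalizer ((YQ Z j ⊓ centralizer (W i : Set G) : Subgroup G) : Set G))
    (hLZ : ∀ i j, i ≠ j → L' i ≤ centralizer (Z j : Set G)) :
    ∃ i j F, OutQ ZJ W Z i j F := by
  obtain ⟨i, j, F₁, F, x, o⟩ := hF.star hO
  refine ⟨i, j, F, ⟨o.ne, o.eab, o.leO, o.le_centi, o.mov, ?_, o.le_cent hF, o.le_sup hF,
    fun M h1 h2 => o.exact hF h1 h2, fun M A h1 h2 h3 => o.no_sub hF h1 h2 h3⟩⟩
  exact o.low hF (V := W i) (Zp := Z j) (MinSimple.VModule.o2_isPGroup _) (h.W_le_NQ' i) (hLC i j o.ne)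
    ((hLZ i j o.ne).trans (centralizer_le_normalizer _)) (Q.Z_le_NQ Z j) (h.stab j).le

end FrG

end Cfsg.Agent.Omega.EK3.QG

end

section


/-!
# (E), `k ≥ 3`, `q ≥ 4` (bb #22703, #23165): the minimal parabolics over `T_j` in `Y_j`

* `blk_idx` : a block with module `W j`;  `blk_both` = (BLK) : `L' ≤ L_j C_D(W_j)`, `L_j ≤ L' C_D(W_j)`;
* `par`;  `gen` : `Y_j = ⟨D, L_j, N_{Y_j}(B)⟩`;  `nonloc` (port of `EK3/Q/Par.lean` to `MulG`).
-/

set_option autoImplicit false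
set_option linter.unusedSectionVars false
set_option linter.unusedVariables false

namespace Cfsg.Agent.Omega.EK3.QG

open Subgroup Cfsg Cfsg.Agent.ZN.ChoiceBase
open Cfsg.Agent.ZN (jj zj bau zc zl o2)
open Cfsg.Agent.ZN.ChoiceSit (Syl exists_syl syl_conj isPGroup_o2 le_o2 le_normalizer_o2 o2_le_syl syl_not_dvd)
open Cfsg.Agent.Omega
open Cfsg.Agent.Omega.OM Cfsg.Agent.Omega.OM.Uni
open Cfsg.Agent.Omega.OM.UniPlus (NB)
open Cfsg.Agent.Omega.NO3S.EThree.Frame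
open Cfsg.Agent.Omega.NO3S.EMany
open Cfsg.Agent.Omega.Node.MultiOf
open Cfsg.Agent.Omega.Node.MulG
open Cfsg.Agent.Omega.EK3.Q (YQ CQ NQ TY mem_YQ mem_CQ CQ_comm YQ_le_left YQ_le_right YQ_cent CQ_cent YQ_eq_cent CQ_eq_cent)
open Cfsg.Agent.MinSimple.MinParabolic (IsMinPar)
open scoped Pointwise

universe u

variable {G : Type u} [Group G] {k : ℕ}

namespace FrG

variable [Finite G] {S : Sylow 2 G} {P K B ZJ : Subgroup G} {L W Z C : Fin k → Subgroup G} {q : ℕ}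
  (h : FrG S P K B ZJ L W Z C q)
include h

theorem nb (j : Fin k) : NB B (L j) (W j) (Z j) q := FourQ.nb h.bg j

theorem rt (j : Fin k) : AltQ.Rt B (W j) (Z j) := FourQ.rt h.bg j

omit h in
theorem cent_sup (W ZJ : Subgroup G) :
    centralizer ((W ⊔ ZJ : Subgroup G) : Set G) = centralizer (ZJ : Set G) ⊓ centralizer (W : Set G) := by
  apply le_antisymm
  · exact le_inf (centralizer_le (le_sup_right : ZJ ≤ W ⊔ ZJ)) (centralizer_le (le_sup_left : W ≤ W ⊔ ZJ))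
  · rintro x ⟨h1, h2⟩
    have h3 : W ⊔ ZJ ≤ centralizer ({x} : Set G) := sup_le
      (fun w hw => mem_centralizer_singleton_iff.2 (mem_centralizer_iff.1 h2 w hw))
      (fun w hw => mem_centralizer_singleton_iff.2 (mem_centralizer_iff.1 h1 w hw))
    exact mem_centralizer_iff.2 fun w hw => mem_centralizer_singleton_iff.1 (h3 hw)

/-- a block with module `W j` -/
theorem blk_idx {L' : Subgroup G} {j : Fin k} (hb : FBl B L' (W j)) : NB B L' (W j) (Z j) q := by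
  obtain ⟨⟨Z', q', hF⟩, -⟩ := hb
  have hZ' : Z' = Z j := by
    ext x
    rw [hF.toMd.mem_Z_iff, (h.bg.fr.blk j).toMd.mem_Z_iff]
  subst hZ'
  have hq' : q' = q := by
    have h3 := hF.card
    rw [(h.bg.fr.blk j).card, h.bg.fr.cardZ] at h3
    have h4 := h.four
    exact (Nat.eq_of_mul_eq_mul_left (by omega) h3).symm
  subst hq'
  exact ⟨hF, h.bg.fr.cardZ j⟩

/-- two blocks in `Y_j` -/
theorem blk_two {j : Fin k} {L₁ L₂ : Subgroup G} (h1 : L₁ ≤ YQ Z j) (h2 : L₂ ≤ YQ Z j)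
    (hN₁ : NB B L₁ (W j) (Z j) q) (hN₂ : NB B L₂ (W j) (Z j) q) :
    L₂ ≤ L₁ ⊔ (centralizer (ZJ : Set G) ⊓ centralizer (W j : Set G)) := by
  have hstar := UniPlus.star_main h.bg.wc h.bg.bau_two hN₁ hN₂ rfl rfl rfl (fun y hy => ?_)
  · have h3 := hstar.2.2
    rwa [h.bg.fr.zcB, cent_sup] at h3
  · obtain ⟨z, hz, hz1⟩ : ∃ z ∈ Z j, z ≠ 1 := by
      by_contra hcon
      push Not at hcon
      exact h.bg.Z_ne j ((eq_bot_iff_forall _).2 hcon)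
    have hv : y * z * y⁻¹ ∈ W j := hN₂.nV y hy z (hN₂.ZV hz)
    obtain ⟨l, hl, e⟩ := AltQ.trL hN₁ (h.rt j) hv (fun e => hz1 (conj_eq_one_iff.1 e)) hz hz1
    have h3 : l⁻¹ * y ∈ normalizer (Z j : Set G) := by
      refine h.cent_m hz hz1 (mem_inf.2 ⟨mul_mem (inv_mem (h1 hl)) (h2 hy), ?_⟩)
      rw [mem_centralizer_singleton_iff]
      have e2 : l⁻¹ * (y * z * y⁻¹) * l = z := by rw [← e]; group
      calc l⁻¹ * y * z = l⁻¹ * (y * z * y⁻¹) * l * (l⁻¹ * y) := by group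
        _ = z * (l⁻¹ * y) := by rw [e2]
    have h4 : cj y (Z j) = cj l (Z j) := by
      have e3 := mem_normalizer_iff_cj.1 h3
      conv_rhs => rw [← e3, cj_cj, mul_inv_cancel_left]
    refine ⟨l, hl, fun v hv => ⟨v, h4 ▸ hv, 1, fun l _ => by simp, by simp⟩⟩

/-- **(BLK)** -/
theorem blk_both {L' : Subgroup G} {j : Fin k} (hb : FBl B L' (W j)) (hL : L' ≤ YQ Z j) :
    L' ≤ L j ⊔ (centralizer (ZJ : Set G) ⊓ centralizer (W j : Set G)) ∧
      L j ≤ L' ⊔ (centralizer (ZJ : Set G) ⊓ centralizer (W j : Set G)) :=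
  ⟨h.blk_two (h.L_le j) hL (h.nb j) (h.blk_idx hb), h.blk_two hL (h.L_le j) (h.blk_idx hb) (h.nb j)⟩

/-- **The minimal parabolics over `T_j` in `Y_j`.** -/
theorem par' {j : Fin k} {R : Subgroup G} (hR : IsMinPar (TY S Z j) R) (hRY : R ≤ YQ Z j) :
    R ≤ normalizer (Z j : Set G) ∨ ∃ L' : Subgroup G, L' ≤ R ∧ FBl B L' (W j) ∧ NB B L' (W j) (Z j) q ∧
      R ≤ L' ⊔ TY S Z j := by
  have hTR := h.syl_of hR.le hRY
  by_cases hK : K ≤ o2 R
  · left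
    have h1 : R ≤ normalizer (ZJ : Set G) := (le_normalizer_o2 R).trans (h.lb.nrm _ (isPGroup_o2 R) hK)
    exact fun r hr => h.norm_ZJ (hRY hr) (h1 hr) j
  obtain ⟨m, hm, hm1, hmT⟩ := h.exists_m j
  by_cases hZ : R ≤ centralizer (zc (TY S Z j) : Set G)
  · left
    refine fun r hr => h.cent_m hm hm1 ⟨hRY hr, ?_⟩
    exact centralizer_le (Set.singleton_subset_iff.2 (h.m_zc hm hmT)) (hZ hr)
  right
  have hc : R ⊓ centralizer (o2 R : Set G) ≤ o2 R :=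
    MinSimple.Basic.char2_of_le (h.char2 j) ((o2_le_syl (h.syl j)).trans hR.le) hRY
  obtain ⟨L', hbl, h1, h2⟩ := h.blk j R hRY hR hTR hc hK hZ
  exact ⟨L', h1, hbl, h.blk_idx hbl, h2⟩

/-- **The minimal parabolics over `T_j` in `Y_j`.** -/
theorem par {j : Fin k} {R : Subgroup G} (hR : IsMinPar (TY S Z j) R) (hRY : R ≤ YQ Z j) :
    R ≤ normalizer (Z j : Set G) ∨ (R ≤ normalizer (W j : Set G) ∧
      (∀ v ∈ W j, ∀ w ∈ W j, v ≠ 1 → w ≠ 1 → ∃ r ∈ R, r * v * r⁻¹ = w) ∧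
      R ≤ L j ⊔ TY S Z j ⊔ (centralizer (ZJ : Set G) ⊓ centralizer (W j : Set G)) ∧
      L j ≤ R ⊔ (centralizer (ZJ : Set G) ⊓ centralizer (W j : Set G)) ∧
      ∃ L' ≤ R, FBl B L' (W j) ∧ R ≤ L' ⊔ TY S Z j) := by
  rcases h.par' hR hRY with h1 | ⟨L', h1, hbl, hN, h2⟩
  · exact Or.inl h1
  right
  have hb := h.blk_both hbl (h1.trans hRY)
  refine ⟨?_, ?_, ?_, ?_, L', h1, hbl, h2⟩
  · refine h2.trans (sup_le (fun l hl => ?_) (h.T_norm_W j j))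
    exact ML.MinFrame.le_normalizer_of (fun g hg x hx => hN.nV g hg x hx) hl
  · intro v hv w hw hv1 hw1
    obtain ⟨z, hz, hz1⟩ : ∃ z ∈ Z j, z ≠ 1 := by
      by_contra hcon
      push Not at hcon
      exact h.bg.Z_ne j ((eq_bot_iff_forall _).2 hcon)
    obtain ⟨a, ha, rfl⟩ := AltQ.trL hN (h.rt j) hv hv1 hz hz1
    obtain ⟨b, hb, rfl⟩ := AltQ.trL hN (h.rt j) hw hw1 hz hz1
    exact ⟨b * a⁻¹, h1 (mul_mem hb (inv_mem ha)), by group⟩
  · exact h2.trans (sup_le (hb.1.trans (sup_le (le_sup_of_le_left le_sup_left) le_sup_right))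
      (le_sup_of_le_left le_sup_right))
  · exact hb.2.trans (sup_le (h1.trans le_sup_left) le_sup_right)

/-- a minimal parabolic in `N(Z_j)` lies in `D N_{Y_j}(B)` -/
theorem le_gen_of_norm {j : Fin k} {R : Subgroup G} (hRY : R ≤ YQ Z j) (hR : R ≤ normalizer (Z j : Set G)) :
    R ≤ centralizer (ZJ : Set G) ⊔ (YQ Z j ⊓ normalizer (B : Set G)) := by
  intro y hy
  obtain ⟨d, hd, n, hn, hnB, rfl⟩ := h.frat (hRY hy) (h.norm_ZJ' (hRY hy) (hR hy))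
  exact mul_mem (mem_sup_left hd) (mem_sup_right (mem_inf.2 ⟨hn, hnB⟩))

/-- `N_{Y_j}(T_j) ≤ N(B)` -/
theorem norm_T_le (j : Fin k) : YQ Z j ⊓ normalizer (TY S Z j : Set G) ≤ normalizer (B : Set G) := by
  rintro n ⟨-, hnT⟩
  rw [mem_normalizer_iff_cj]
  refine h.bg.wc (TY S Z j) (h.T_two j) (h.B_le_T j) n ?_
  rw [← mem_normalizer_iff_cj.1 hnT]
  exact cj_mono n (h.B_le_T j)

/-- **`Y_j = ⟨D, L_j, N_{Y_j}(B)⟩`** -/
theorem gen (j : Fin k) : YQ Z j ≤ centralizer (ZJ : Set G) ⊔ L j ⊔ (YQ Z j ⊓ normalizer (B : Set G)) := by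
  refine MinSimple.MinParabolic.le_of_forall (h.syl j).1 ?_ fun R hR hRY => ?_
  · exact fun n hn => mem_sup_right (mem_inf.2 ⟨hn.1, h.norm_T_le j hn⟩)
  · rcases h.par hR hRY with h1 | ⟨-, -, h3, -⟩
    · exact (h.le_gen_of_norm hRY h1).trans (sup_le (le_sup_of_le_left le_sup_left) le_sup_right)
    · refine h3.trans (sup_le (sup_le ?_ ?_) ?_)
      · exact le_sup_of_le_left le_sup_right
      · exact le_sup_of_le_right (le_inf (h.syl j).1 (h.T_norm_B j))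
      · exact inf_le_left.trans (le_sup_of_le_left le_sup_left)

/-- **(E)**: no 2-group `≠ 1` is normalised by all `Y_l` -/
theorem nonloc (hE : NLoc (centralizer (ZJ : Set G) ⊔ ⨆ i, L i)) {U : Subgroup G} (hU : IsPGroup 2 U)
    (hY : ∀ l, YQ Z l ≤ normalizer (U : Set G)) : U = ⊥ := by
  obtain ⟨i⟩ : Nonempty (Fin k) := ⟨⟨0, lt_of_lt_of_le (by norm_num) h.three⟩⟩
  exact hE U hU (sup_le ((h.D_le i).trans (hY i)) (iSup_le fun l => (h.L_le l).trans (hY l)))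

end FrG

end Cfsg.Agent.Omega.EK3.QG

end

end

-- merged: Cfsg.Agent.Mrg.Omega.EK3.Q.Par
section

section


/-!
# (E), `k ≥ 3`, `q ≥ 4` (bb #22703, #23165): the minimal parabolics over `T_j` in `Y_j`

* `blk_idx` : a block in `Y_j` has index `j`;  `blk_both` = (BLK) : `L' ≤ L_j C_D(W_j)`, `L_j ≤ L' C_D(W_j)`;
* `par`;  `gen` : `Y_j = ⟨D, L_j, N_{Y_j}(B)⟩`;  `blk_mem`, `nonloc`.
-/

set_option autoImplicit false
set_option linter.unusedSectionVars false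
set_option linter.unusedVariables false

namespace Cfsg.Agent.Omega.EK3.Q

open Subgroup Cfsg Cfsg.Agent.ZN.ChoiceBase
open Cfsg.Agent.ZN (jj zj bau zc zl o2)
open Cfsg.Agent.ZN.ChoiceSit (Syl exists_syl syl_conj isPGroup_o2 le_o2 le_normalizer_o2 o2_le_syl syl_not_dvd)
open Cfsg.Agent.Omega
open Cfsg.Agent.Omega.OM Cfsg.Agent.Omega.OM.Uni
open Cfsg.Agent.Omega.OM.UniPlus (NB)
open Cfsg.Agent.Omega.NO3S.EThree.Frame
open Cfsg.Agent.Omega.NO3S.EMany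
open Cfsg.Agent.Omega.Node.MultiOf
open Cfsg.Agent.MinSimple.MinParabolic (IsMinPar)
open scoped Pointwise

universe u

variable {G : Type u} [Group G] {k : ℕ}

namespace FrQ

variable [Finite G] {S : Sylow 2 G} {P K B ZJ : Subgroup G} {L W Z C : Fin k → Subgroup G} {q : ℕ}
  (h : FrQ S P K B ZJ L W Z C q)
include h

theorem nb (j : Fin k) : NB B (L j) (W j) (Z j) q := FourQ.nb h.bg j

theorem rt (j : Fin k) : AltQ.Rt B (W j) (Z j) := FourQ.rt h.bg j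

omit h in
theorem cent_sup (W ZJ : Subgroup G) :
    centralizer ((W ⊔ ZJ : Subgroup G) : Set G) = centralizer (ZJ : Set G) ⊓ centralizer (W : Set G) := by
  apply le_antisymm
  · exact le_inf (centralizer_le (le_sup_right : ZJ ≤ W ⊔ ZJ)) (centralizer_le (le_sup_left : W ≤ W ⊔ ZJ))
  · rintro x ⟨h1, h2⟩
    have h3 : W ⊔ ZJ ≤ centralizer ({x} : Set G) := sup_le
      (fun w hw => mem_centralizer_singleton_iff.2 (mem_centralizer_iff.1 h2 w hw))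
      (fun w hw => mem_centralizer_singleton_iff.2 (mem_centralizer_iff.1 h1 w hw))
    exact mem_centralizer_iff.2 fun w hw => mem_centralizer_singleton_iff.1 (h3 hw)

/-- every block lies in some `Y_i` -/
theorem blk_mem {L' V' : Subgroup G} (hb : FBl B L' V') : ∃ i, V' = W i ∧ NB B L' (W i) (Z i) q ∧ L' ≤ YQ Z i := by
  obtain ⟨i, rfl, hc⟩ := h.uni L' V' hb
  obtain ⟨⟨Z', q', hF⟩, -⟩ := hb
  have hZ' : Z' = Z i := by
    ext x
    rw [hF.toMd.mem_Z_iff, (h.bg.fr.blk i).toMd.mem_Z_iff]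
  subst hZ'
  have hq' : q' = q := by
    have h3 := hF.card
    rw [(h.bg.fr.blk i).card, h.bg.fr.cardZ] at h3
    have h4 := h.four
    exact (Nat.eq_of_mul_eq_mul_left (by omega) h3).symm
  subst hq'
  refine ⟨i, rfl, ⟨hF, h.bg.fr.cardZ i⟩, fun l hl => mem_YQ.2 fun n hn z hz => ?_⟩
  exact hc z (h.bg.fr.Z_le n hz) (h.Z_le_C hn hz) l hl

/-- a block in `Y_j` has index `j` -/
theorem blk_idx {L' V' : Subgroup G} (hb : FBl B L' V') {j : Fin k} (hL : L' ≤ YQ Z j) :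
    V' = W j ∧ NB B L' (W j) (Z j) q := by
  obtain ⟨i, rfl, hN, -⟩ := h.blk_mem hb
  have hij : i = j := by
    by_contra hij
    obtain ⟨l, hl, hne⟩ := AltQ.exists_ne hN
    exact hne (mem_normalizer_iff_cj.1 (centralizer_le_normalizer _ (YQ_cent hij (hL hl))))
  subst hij
  exact ⟨rfl, hN⟩

/-- two blocks in `Y_j` -/
theorem blk_two {j : Fin k} {L₁ L₂ : Subgroup G} (h1 : L₁ ≤ YQ Z j) (h2 : L₂ ≤ YQ Z j)
    (hN₁ : NB B L₁ (W j) (Z j) q) (hN₂ : NB B L₂ (W j) (Z j) q) :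
    L₂ ≤ L₁ ⊔ (centralizer (ZJ : Set G) ⊓ centralizer (W j : Set G)) := by
  have hstar := UniPlus.star_main h.bg.wc h.bg.bau_two hN₁ hN₂ rfl rfl rfl (fun y hy => ?_)
  · have h3 := hstar.2.2
    rwa [h.bg.fr.zcB, cent_sup] at h3
  · obtain ⟨z, hz, hz1⟩ : ∃ z ∈ Z j, z ≠ 1 := by
      by_contra hcon
      push Not at hcon
      exact h.bg.Z_ne j ((eq_bot_iff_forall _).2 hcon)
    have hv : y * z * y⁻¹ ∈ W j := hN₂.nV y hy z (hN₂.ZV hz)
    obtain ⟨l, hl, e⟩ := AltQ.trL hN₁ (h.rt j) hv (fun e => hz1 (conj_eq_one_iff.1 e)) hz hz1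
    have h3 : l⁻¹ * y ∈ normalizer (Z j : Set G) := by
      refine h.cent_m hz hz1 (mem_inf.2 ⟨mul_mem (inv_mem (h1 hl)) (h2 hy), ?_⟩)
      rw [mem_centralizer_singleton_iff]
      have e2 : l⁻¹ * (y * z * y⁻¹) * l = z := by rw [← e]; group
      calc l⁻¹ * y * z = l⁻¹ * (y * z * y⁻¹) * l * (l⁻¹ * y) := by group
        _ = z * (l⁻¹ * y) := by rw [e2]
    have h4 : cj y (Z j) = cj l (Z j) := by
      have e3 := mem_normalizer_iff_cj.1 h3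
      conv_rhs => rw [← e3, cj_cj, mul_inv_cancel_left]
    refine ⟨l, hl, fun v hv => ⟨v, h4 ▸ hv, 1, fun l _ => by simp, by simp⟩⟩

/-- **(BLK)** -/
theorem blk_both {L' V' : Subgroup G} (hb : FBl B L' V') {j : Fin k} (hL : L' ≤ YQ Z j) :
    L' ≤ L j ⊔ (centralizer (ZJ : Set G) ⊓ centralizer (W j : Set G)) ∧
      L j ≤ L' ⊔ (centralizer (ZJ : Set G) ⊓ centralizer (W j : Set G)) :=
  ⟨h.blk_two (h.L_le j) hL (h.nb j) (h.blk_idx hb hL).2, h.blk_two hL (h.L_le j) (h.blk_idx hb hL).2 (h.nb j)⟩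

/-- **The minimal parabolics over `T_j` in `Y_j`.** -/
theorem par' {j : Fin k} {R : Subgroup G} (hR : IsMinPar (TY S Z j) R) (hRY : R ≤ YQ Z j) :
    R ≤ normalizer (Z j : Set G) ∨ ∃ L' : Subgroup G, L' ≤ R ∧ FBl B L' (W j) ∧ NB B L' (W j) (Z j) q ∧
      R ≤ L' ⊔ TY S Z j := by
  have hTR := h.syl_of hR.le hRY
  by_cases hK : K ≤ o2 R
  · left
    have h1 : R ≤ normalizer (ZJ : Set G) := (le_normalizer_o2 R).trans (h.lb.nrm _ (isPGroup_o2 R) hK)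
    exact fun r hr => h.norm_ZJ (hRY hr) (h1 hr) j
  obtain ⟨m, hm, hm1, hmT⟩ := h.exists_m j
  by_cases hZ : R ≤ centralizer (zc (TY S Z j) : Set G)
  · left
    refine fun r hr => h.cent_m hm hm1 ⟨hRY hr, ?_⟩
    exact centralizer_le (Set.singleton_subset_iff.2 (h.m_zc hm hmT)) (hZ hr)
  right
  have hc : R ⊓ centralizer (o2 R : Set G) ≤ o2 R :=
    MinSimple.Basic.char2_of_le (h.char2 j) ((o2_le_syl (h.syl j)).trans hR.le) hRY
  obtain ⟨L', V', hbl, h1, h2⟩ := h.blk j R hR hTR hc hK hZ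
  obtain ⟨rfl, hN⟩ := h.blk_idx hbl (h1.trans hRY)
  exact ⟨L', h1, hbl, hN, h2⟩

/-- **The minimal parabolics over `T_j` in `Y_j`.** -/
theorem par {j : Fin k} {R : Subgroup G} (hR : IsMinPar (TY S Z j) R) (hRY : R ≤ YQ Z j) :
    R ≤ normalizer (Z j : Set G) ∨ (R ≤ normalizer (W j : Set G) ∧
      (∀ v ∈ W j, ∀ w ∈ W j, v ≠ 1 → w ≠ 1 → ∃ r ∈ R, r * v * r⁻¹ = w) ∧
      R ≤ L j ⊔ TY S Z j ⊔ (centralizer (ZJ : Set G) ⊓ centralizer (W j : Set G)) ∧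
      L j ≤ R ⊔ (centralizer (ZJ : Set G) ⊓ centralizer (W j : Set G)) ∧
      ∃ L' ≤ R, FBl B L' (W j) ∧ R ≤ L' ⊔ TY S Z j) := by
  rcases h.par' hR hRY with h1 | ⟨L', h1, hbl, hN, h2⟩
  · exact Or.inl h1
  right
  have hb := h.blk_both hbl (h1.trans hRY)
  refine ⟨?_, ?_, ?_, ?_, L', h1, hbl, h2⟩
  · refine h2.trans (sup_le (fun l hl => ?_) (h.T_norm_W j j))
    exact ML.MinFrame.le_normalizer_of (fun g hg x hx => hN.nV g hg x hx) hl
  · intro v hv w hw hv1 hw1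
    obtain ⟨z, hz, hz1⟩ : ∃ z ∈ Z j, z ≠ 1 := by
      by_contra hcon
      push Not at hcon
      exact h.bg.Z_ne j ((eq_bot_iff_forall _).2 hcon)
    obtain ⟨a, ha, rfl⟩ := AltQ.trL hN (h.rt j) hv hv1 hz hz1
    obtain ⟨b, hb, rfl⟩ := AltQ.trL hN (h.rt j) hw hw1 hz hz1
    exact ⟨b * a⁻¹, h1 (mul_mem hb (inv_mem ha)), by group⟩
  · exact h2.trans (sup_le (hb.1.trans (sup_le (le_sup_of_le_left le_sup_left) le_sup_right))
      (le_sup_of_le_left le_sup_right))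
  · exact hb.2.trans (sup_le (h1.trans le_sup_left) le_sup_right)

/-- a minimal parabolic in `N(Z_j)` lies in `D N_{Y_j}(B)` -/
theorem le_gen_of_norm {j : Fin k} {R : Subgroup G} (hRY : R ≤ YQ Z j) (hR : R ≤ normalizer (Z j : Set G)) :
    R ≤ centralizer (ZJ : Set G) ⊔ (YQ Z j ⊓ normalizer (B : Set G)) := by
  intro y hy
  obtain ⟨d, hd, n, hn, hnB, rfl⟩ := h.frat (hRY hy) (h.norm_ZJ' (hRY hy) (hR hy))
  exact mul_mem (mem_sup_left hd) (mem_sup_right (mem_inf.2 ⟨hn, hnB⟩))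

/-- `N_{Y_j}(T_j) ≤ N(B)` -/
theorem norm_T_le (j : Fin k) : YQ Z j ⊓ normalizer (TY S Z j : Set G) ≤ normalizer (B : Set G) := by
  rintro n ⟨-, hnT⟩
  rw [mem_normalizer_iff_cj]
  refine h.bg.wc (TY S Z j) (h.T_two j) (h.B_le_T j) n ?_
  rw [← mem_normalizer_iff_cj.1 hnT]
  exact cj_mono n (h.B_le_T j)

/-- **`Y_j = ⟨D, L_j, N_{Y_j}(B)⟩`** -/
theorem gen (j : Fin k) : YQ Z j ≤ centralizer (ZJ : Set G) ⊔ L j ⊔ (YQ Z j ⊓ normalizer (B : Set G)) := by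
  refine MinSimple.MinParabolic.le_of_forall (h.syl j).1 ?_ fun R hR hRY => ?_
  · exact fun n hn => mem_sup_right (mem_inf.2 ⟨hn.1, h.norm_T_le j hn⟩)
  · rcases h.par hR hRY with h1 | ⟨-, -, h3, -⟩
    · exact (h.le_gen_of_norm hRY h1).trans (sup_le (le_sup_of_le_left le_sup_left) le_sup_right)
    · refine h3.trans (sup_le (sup_le ?_ ?_) ?_)
      · exact le_sup_of_le_left le_sup_right
      · exact le_sup_of_le_right (le_inf (h.syl j).1 (h.T_norm_B j))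
      · exact inf_le_left.trans (le_sup_of_le_left le_sup_left)

/-- **(E)**: no 2-group `≠ 1` is normalised by all `Y_l` -/
theorem nonloc (hE : NLoc (KZ B ZJ)) {U : Subgroup G} (hU : IsPGroup 2 U)
    (hY : ∀ l, YQ Z l ≤ normalizer (U : Set G)) : U = ⊥ := by
  obtain ⟨i⟩ : Nonempty (Fin k) := ⟨⟨0, lt_of_lt_of_le (by norm_num) h.three⟩⟩
  refine hE U hU (sup_le ((h.D_le i).trans (hY i)) (iSup_le ?_))
  rintro ⟨⟨L', V'⟩, hb⟩
  obtain ⟨i, -, -, hL⟩ := h.blk_mem hb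
  exact hL.trans (hY i)

/-- **(E)** with `D`, the blocks: no 2-group `≠ 1` is normalised by `D` and all `L_l` -/
theorem nonloc' (hE : NLoc (KZ B ZJ)) {U : Subgroup G} (hU : IsPGroup 2 U)
    (hD : centralizer (ZJ : Set G) ≤ normalizer (U : Set G)) (hL : ∀ l, L l ≤ normalizer (U : Set G)) : U = ⊥ := by
  refine hE U hU (sup_le hD (iSup_le ?_))
  rintro ⟨⟨L', V'⟩, hb⟩
  obtain ⟨i, rfl, -, hi⟩ := h.blk_mem hb
  exact (h.blk_both hb hi).1.trans (sup_le (hL i) (inf_le_left.trans hD))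

end FrQ

end Cfsg.Agent.Omega.EK3.Q

end

section


/-!
# (E), `k ≥ 3`, `q ≥ 4` (bb #22703, #23990): the frame `FrQ` is a frame of STAR (`StarE.Fr`)

`LI Z L B i = ⟨L i, N_{Y_i}(B)⟩` normalises `W i`, centralises `Z l` (`l ≠ i`).

* `starFr` : `StarE.Fr` for `O = O₂(D)`, `D = C_G(ZJ)`, `Y_j`, `N_j`, `LI`, from (NO) and `KZ` nonlocal;
* `LI_cent_Z`, `LI_norm_W`, `LI_norm_CW`, `O_ne` : the side conditions of `exists_out`;
* `exists_outQ` : the output of STAR.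
-/

set_option autoImplicit false
set_option linter.unusedSectionVars false

namespace Cfsg.Agent.Omega.EK3.Q

open Subgroup Cfsg Cfsg.Agent.ZN.ChoiceBase
open Cfsg.Agent.ZN (zc zl o2)
open Cfsg.Agent.Omega.NO3S.EThree.Frame
open Cfsg.Agent.Omega.Node.MultiOf
open Cfsg.Agent.Omega.NoFF.Basic (V)
open Cfsg.Agent.Omega.EK3.StarE (EE EE_le EE_mono le_EE cj_le_EE norm_EE)
open Cfsg.Agent.Omega.EK3.Rank (NoOn)
open scoped Pointwise

universe u

variable {G : Type u} [Group G] {k : ℕ}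

/-- `⟨L i, N_{Y_i}(B)⟩` -/
def LI (Z L : Fin k → Subgroup G) (B : Subgroup G) (i : Fin k) : Subgroup G := L i ⊔ (YQ Z i ⊓ normalizer (B : Set G))

namespace FrQ

variable [Finite G] {S : Sylow 2 G} {P K B ZJ : Subgroup G} {L W Z C : Fin k → Subgroup G} {q : ℕ}
  (h : FrQ S P K B ZJ L W Z C q)
include h

theorem LI_le (i : Fin k) : LI Z L B i ≤ YQ Z i := sup_le (h.L_le i) inf_le_left

theorem LI_cent_Z {i j : Fin k} (hij : i ≠ j) : LI Z L B i ≤ centralizer (Z j : Set G) :=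
  (h.LI_le i).trans (YQ_cent hij.symm)

theorem L_norm_W (i : Fin k) : L i ≤ normalizer (W i : Set G) := by
  intro l hl
  have key : ∀ y ∈ L i, cj y (W i) ≤ W i := by
    rintro y hy _ ⟨w, hw, rfl⟩
    exact (h.mul.bg.fr.blk i).nV y hy w hw
  rw [mem_normalizer_iff_cj]
  refine le_antisymm (key l hl) ?_
  have h1 := cj_mono l (key l⁻¹ (inv_mem hl))
  rwa [cj_cj_inv] at h1

theorem LI_norm_W (i : Fin k) : LI Z L B i ≤ normalizer (W i : Set G) :=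
  sup_le (h.L_norm_W i) fun _ hx => mem_normalizer_iff_cj.2 (h.fixB hx.2 hx.1 i).1

/-- `Y_j ∩ C(W i) = C_ij ∩ C(W i)` for `i ≠ j` -/
theorem Y_inf_cent {i j : Fin k} (hij : i ≠ j) :
    YQ Z j ⊓ centralizer (W i : Set G) = CQ Z i j ⊓ centralizer (W i : Set G) := by
  apply le_antisymm
  · exact inf_le_inf_right _ (YQ_le_right Z i j)
  · rintro x ⟨hx, hxW⟩
    refine ⟨mem_YQ.2 fun l hl z hz => ?_, hxW⟩
    by_cases hli : l = i
    · subst hli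
      exact (mem_centralizer_iff.1 hxW z ((h.mul.bg.fr.blk l).ZV hz)).symm
    · exact mem_CQ.1 hx l hli hl z hz

theorem LI_le_CQ (i j : Fin k) : LI Z L B i ≤ CQ Z i j := (h.LI_le i).trans (YQ_le_left Z i j)

/-- `⟨L i, N_{Y_i}(B)⟩` normalises `C_{Y_j}(W i)` -/
theorem LI_norm_CW {i j : Fin k} (hij : i ≠ j) :
    LI Z L B i ≤ normalizer ((YQ Z j ⊓ centralizer (W i : Set G) : Subgroup G) : Set G) := by
  rw [h.Y_inf_cent hij]
  intro x hx
  rw [mem_normalizer_iff_cj, cj_inf, cj_centralizer, cj_eq_of_mem_normalizer (h.LI_norm_W i hx),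
    cj_eq_of_mem_normalizer (Subgroup.le_normalizer (h.LI_le_CQ i j hx))]

theorem EQ_eab (i j : Fin k) : IsElementaryAbelian 2 (EQ Z ZJ i j) :=
  NO3S.EThree.ExactA.eab_iff.2 ⟨h.EQ_ab i j, fun _ hx => h.EQ_sq hx⟩

theorem EE_eab (i j : Fin k) : IsElementaryAbelian 2 (EE ZJ (YQ Z i ⊔ YQ Z j)) :=
  NO3S.EThree.ExactA.eab_mono (h.EQ_eab i j) (EE_le_EQ ZJ Z i j)

theorem NQ_eab (j : Fin k) : IsElementaryAbelian 2 (NQ Z j) :=
  NO3S.EThree.ExactA.eab_mono (h.EQ_eab j j) (h.NQ_le_EQ_left j j)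

/-- `N_i` centralises `N_j` -/
theorem NQ_cent_NQ (i j : Fin k) : NQ Z i ≤ centralizer (NQ Z j : Set G) := fun _ hx =>
  mem_centralizer_iff.2 fun _ hy => h.EQ_comm (h.NQ_le_EQ_right i j hy) (h.NQ_le_EQ_left i j hx)

theorem O_ne : o2 (centralizer (ZJ : Set G)) ≠ ⊥ := by
  have : Nonempty (Fin k) := ⟨⟨0, lt_of_lt_of_le (by norm_num) h.three⟩⟩
  obtain ⟨i⟩ := this
  intro e
  apply h.mul.bg.Z_ne i
  rw [eq_bot_iff, ← e]
  exact (h.Z_le_NQ i).trans (h.NQ_le_O i)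

/-- **The frame of STAR.** -/
theorem starFr (hN : NLoc (KZ B ZJ))
    (hno : ∀ j, NoOn (o2 (centralizer (ZJ : Set G))) (NQ Z j)) :
    StarE.Fr (o2 (centralizer (ZJ : Set G))) (centralizer (ZJ : Set G)) ZJ (YQ Z) (NQ Z) (LI Z L B) := by
  have hgen' : ∀ j, YQ Z j ≤ centralizer (ZJ : Set G) ⊔ LI Z L B j := fun j => (h.gen j).trans (by
    unfold LI
    rw [sup_assoc])
  exact
  { OD := ZN.ChoiceSit.o2_le _
    DO := ZN.ChoiceSit.le_normalizer_o2 _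
    OZ := ZN.ChoiceSit.o2_le _
    DY := h.D_le
    LY := h.LI_le
    YDL := hgen'
    eab := h.NQ_eab
    NQ := fun i j => le_inf (h.NQ_le_O i) (h.NQ_cent_NQ i j)
    YN := fun i => YQ_norm_NQ Z i
    YQ := fun i => by
      rw [← h.Q_eq i]
      exact ZN.ChoiceSit.le_normalizer_o2 _
    no := hno
    nl := fun U hU hD hL => h.nonloc hN ((ZN.ChoiceSit.isPGroup_o2 _).to_le hU) fun j =>
      (hgen' j).trans (sup_le hD (hL j))
    Eeab := fun i j _ => h.EE_eab i j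
    EO := fun i j _ => h.EE_le_O i j
    NE := fun i => Loc.V_mono (h.mul.bg.fr.Z_le i) le_rfl }

/-- **STAR over `FrQ`.** -/
theorem exists_outQ (hN : NLoc (KZ B ZJ)) (hno : ∀ j, NoOn (o2 (centralizer (ZJ : Set G))) (NQ Z j)) :
    ∃ i j F, OutQ ZJ W Z i j F :=
  h.exists_out (h.starFr hN hno) h.O_ne (fun _ _ hij => h.LI_norm_CW hij) fun _ _ hij => h.LI_cent_Z hij

end FrQ

end Cfsg.Agent.Omega.EK3.Q

end

section


/-!
# (E), `k ≥ 3`, `q ≥ 4` (bb #22703, #23133, #23990): STAR over the frame `FrQ`, plugged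

`FrQ.out` : `exists_out` with 120's frame of STAR (`starFr`), 968's `gen`, (NO).
-/

set_option autoImplicit false
set_option linter.unusedSectionVars false

namespace Cfsg.Agent.Omega.EK3.Q

open Subgroup Cfsg Cfsg.Agent.ZN.ChoiceBase
open Cfsg.Agent.ZN (zc zl o2)
open Cfsg.Agent.Omega.Node.MultiOf
open Cfsg.Agent.Omega.ML.Final (MLK)

universe u

variable {G : Type u} [Group G] {k : ℕ}

namespace FrQ

variable [Finite G] {S : Sylow 2 G} {P K B ZJ : Subgroup G} {L W Z C : Fin k → Subgroup G} {q : ℕ}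
  (h : FrQ S P K B ZJ L W Z C q)
include h

/-- **STAR over `FrQ`.** -/
theorem out (hML : MLK.{u, u}) (hK : ∀ j, IsKGroup (YQ Z j)) (hN : NLoc (KZ B ZJ)) :
    ∃ i j F, OutQ ZJ W Z i j F :=
  h.exists_outQ hN fun _ => h.noOn hML (hK _)

end FrQ

end Cfsg.Agent.Omega.EK3.Q

end

section


/-!
# (E), `k ≥ 3`, `q ≥ 4` (bb #22703, #23990): the frame `FrG` is a frame of STAR (`StarE.Fr`)

`LI Z L B i = ⟨L i, N_{Y_i}(B)⟩` normalises `W i`, centralises `Z l` (`l ≠ i`).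

* `starFr` : `StarE.Fr` for `O = O₂(D)`, `D = C_G(ZJ)`, `Y_j`, `N_j`, `LI`, from (NO) and `KZ` nonlocal;
* `LI_cent_Z`, `LI_norm_W`, `LI_norm_CW`, `O_ne` : the side conditions of `exists_out`;
* `exists_outQ` : the output of STAR.

Port of `EK3/Q/LocE.lean` to the frame `FrG` over `MulG`.
-/

set_option autoImplicit false
set_option linter.unusedSectionVars false

namespace Cfsg.Agent.Omega.EK3.QG

open Subgroup Cfsg Cfsg.Agent.ZN.ChoiceBase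
open Cfsg.Agent.ZN (zc zl o2)
open Cfsg.Agent.Omega.NO3S.EThree.Frame
open Cfsg.Agent.Omega.Node.MultiOf
open Cfsg.Agent.Omega.NoFF.Basic (V)
open Cfsg.Agent.Omega.EK3.StarE (EE EE_le EE_mono le_EE cj_le_EE norm_EE)
open Cfsg.Agent.Omega.EK3.Rank (NoOn)
open scoped Pointwise

open Cfsg.Agent.Omega.Node.MulG
open Cfsg.Agent.Omega.EK3.Q

universe u

variable {G : Type u} [Group G] {k : ℕ}

namespace FrG

variable [Finite G] {S : Sylow 2 G} {P K B ZJ : Subgroup G} {L W Z C : Fin k → Subgroup G} {q : ℕ}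
  (h : FrG S P K B ZJ L W Z C q)
include h

theorem LI_le (i : Fin k) : LI Z L B i ≤ YQ Z i := sup_le (h.L_le i) inf_le_left

theorem LI_cent_Z {i j : Fin k} (hij : i ≠ j) : LI Z L B i ≤ centralizer (Z j : Set G) :=
  (h.LI_le i).trans (YQ_cent hij.symm)

theorem L_norm_W (i : Fin k) : L i ≤ normalizer (W i : Set G) := by
  intro l hl
  have key : ∀ y ∈ L i, cj y (W i) ≤ W i := by
    rintro y hy _ ⟨w, hw, rfl⟩
    exact (h.mul.bg.fr.blk i).nV y hy w hw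
  rw [mem_normalizer_iff_cj]
  refine le_antisymm (key l hl) ?_
  have h1 := cj_mono l (key l⁻¹ (inv_mem hl))
  rwa [cj_cj_inv] at h1

theorem LI_norm_W (i : Fin k) : LI Z L B i ≤ normalizer (W i : Set G) :=
  sup_le (h.L_norm_W i) fun _ hx => mem_normalizer_iff_cj.2 (h.fixB hx.2 hx.1 i).1

/-- `Y_j ∩ C(W i) = C_ij ∩ C(W i)` for `i ≠ j` -/
theorem Y_inf_cent {i j : Fin k} (hij : i ≠ j) :
    YQ Z j ⊓ centralizer (W i : Set G) = CQ Z i j ⊓ centralizer (W i : Set G) := by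
  apply le_antisymm
  · exact inf_le_inf_right _ (YQ_le_right Z i j)
  · rintro x ⟨hx, hxW⟩
    refine ⟨mem_YQ.2 fun l hl z hz => ?_, hxW⟩
    by_cases hli : l = i
    · subst hli
      exact (mem_centralizer_iff.1 hxW z ((h.mul.bg.fr.blk l).ZV hz)).symm
    · exact mem_CQ.1 hx l hli hl z hz

theorem LI_le_CQ (i j : Fin k) : LI Z L B i ≤ CQ Z i j := (h.LI_le i).trans (YQ_le_left Z i j)

/-- `⟨L i, N_{Y_i}(B)⟩` normalises `C_{Y_j}(W i)` -/
theorem LI_norm_CW {i j : Fin k} (hij : i ≠ j) :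
    LI Z L B i ≤ normalizer ((YQ Z j ⊓ centralizer (W i : Set G) : Subgroup G) : Set G) := by
  rw [h.Y_inf_cent hij]
  intro x hx
  rw [mem_normalizer_iff_cj, cj_inf, cj_centralizer, cj_eq_of_mem_normalizer (h.LI_norm_W i hx),
    cj_eq_of_mem_normalizer (Subgroup.le_normalizer (h.LI_le_CQ i j hx))]

theorem EQ_eab (i j : Fin k) : IsElementaryAbelian 2 (EQ Z ZJ i j) :=
  NO3S.EThree.ExactA.eab_iff.2 ⟨h.EQ_ab i j, fun _ hx => h.EQ_sq hx⟩

theorem EE_eab (i j : Fin k) : IsElementaryAbelian 2 (EE ZJ (YQ Z i ⊔ YQ Z j)) :=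
  NO3S.EThree.ExactA.eab_mono (h.EQ_eab i j) (EE_le_EQ ZJ Z i j)

theorem NQ_eab (j : Fin k) : IsElementaryAbelian 2 (NQ Z j) :=
  NO3S.EThree.ExactA.eab_mono (h.EQ_eab j j) (h.NQ_le_EQ_left j j)

/-- `N_i` centralises `N_j` -/
theorem NQ_cent_NQ (i j : Fin k) : NQ Z i ≤ centralizer (NQ Z j : Set G) := fun _ hx =>
  mem_centralizer_iff.2 fun _ hy => h.EQ_comm (h.NQ_le_EQ_right i j hy) (h.NQ_le_EQ_left i j hx)

theorem O_ne : o2 (centralizer (ZJ : Set G)) ≠ ⊥ := by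
  have : Nonempty (Fin k) := ⟨⟨0, lt_of_lt_of_le (by norm_num) h.three⟩⟩
  obtain ⟨i⟩ := this
  intro e
  apply h.mul.bg.Z_ne i
  rw [eq_bot_iff, ← e]
  exact (h.Z_le_NQ i).trans (h.NQ_le_O i)

/-- **The frame of STAR.** -/
theorem starFr (hN : NLoc (centralizer (ZJ : Set G) ⊔ ⨆ i, L i))
    (hno : ∀ j, NoOn (o2 (centralizer (ZJ : Set G))) (NQ Z j)) :
    StarE.Fr (o2 (centralizer (ZJ : Set G))) (centralizer (ZJ : Set G)) ZJ (YQ Z) (NQ Z) (LI Z L B) := by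
  have hgen' : ∀ j, YQ Z j ≤ centralizer (ZJ : Set G) ⊔ LI Z L B j := fun j => (h.gen j).trans (by
    unfold LI
    rw [sup_assoc])
  exact
  { OD := ZN.ChoiceSit.o2_le _
    DO := ZN.ChoiceSit.le_normalizer_o2 _
    OZ := ZN.ChoiceSit.o2_le _
    DY := h.D_le
    LY := h.LI_le
    YDL := hgen'
    eab := h.NQ_eab
    NQ := fun i j => le_inf (h.NQ_le_O i) (h.NQ_cent_NQ i j)
    YN := fun i => YQ_norm_NQ Z i
    YQ := fun i => by
      rw [← h.Q_eq i]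
      exact ZN.ChoiceSit.le_normalizer_o2 _
    no := hno
    nl := fun U hU hD hL => h.nonloc hN ((ZN.ChoiceSit.isPGroup_o2 _).to_le hU) fun j =>
      (hgen' j).trans (sup_le hD (hL j))
    Eeab := fun i j _ => h.EE_eab i j
    EO := fun i j _ => h.EE_le_O i j
    NE := fun i => Loc.V_mono (h.mul.bg.fr.Z_le i) le_rfl }

/-- **STAR over `FrG`.** -/
theorem exists_outQ (hN : NLoc (centralizer (ZJ : Set G) ⊔ ⨆ i, L i)) (hno : ∀ j, NoOn (o2 (centralizer (ZJ : Set G))) (NQ Z j)) :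
    ∃ i j F, OutQ ZJ W Z i j F :=
  h.exists_out (h.starFr hN hno) h.O_ne (fun _ _ hij => h.LI_norm_CW hij) fun _ _ hij => h.LI_cent_Z hij

end FrG

end Cfsg.Agent.Omega.EK3.QG

end

section


/-!
# (E), `k ≥ 3`, `q ≥ 4` (bb #22703, #23133, #23990): STAR over the frame `FrG`, plugged

`FrG.out` : `exists_out` with 120's frame of STAR (`starFr`), 968's `gen`, (NO).

Port of `EK3/Q/Out.lean` to the frame `FrG` over `MulG`.
-/

set_option autoImplicit false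
set_option linter.unusedSectionVars false

namespace Cfsg.Agent.Omega.EK3.QG

open Subgroup Cfsg Cfsg.Agent.ZN.ChoiceBase
open Cfsg.Agent.ZN (zc zl o2)
open Cfsg.Agent.Omega.Node.MultiOf
open Cfsg.Agent.Omega.ML.Final (MLK)

open Cfsg.Agent.Omega.Node.MulG
open Cfsg.Agent.Omega.EK3.Q

universe u

variable {G : Type u} [Group G] {k : ℕ}

namespace FrG

variable [Finite G] {S : Sylow 2 G} {P K B ZJ : Subgroup G} {L W Z C : Fin k → Subgroup G} {q : ℕ}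
  (h : FrG S P K B ZJ L W Z C q)
include h

/-- **STAR over `FrG`.** -/
theorem out (hML : MLK.{u, u}) (hK : ∀ j, IsKGroup (YQ Z j)) (hN : NLoc (centralizer (ZJ : Set G) ⊔ ⨆ i, L i)) :
    ∃ i j F, OutQ ZJ W Z i j F :=
  h.exists_outQ hN fun _ => h.noOn hML (hK _)

end FrG

end Cfsg.Agent.Omega.EK3.QG

end

end

-- merged: Cfsg.Agent.Mrg.Omega.EK3.Q.TwoU
section

section


/-!
# (E), `k ≥ 3`, `q ≥ 4`: the minimal parabolics over `T_j` on `Y = V_i Z^j / Z^j` and `X = Z_J / Z^j` (bb #24417)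

`Zs Z j = ⨆ l ≠ j, Z l`; `h : FrQ ..`, `i ≠ j`:

* `comm_norm` : `R ∈ P(Y_j, T_j)`, `R ≤ N(B)` : `R` is trivial on `W i / Z i`;
* `norm_of_mv` : `R ≤ N(Z_j)` moving some `m ∈ Z_J` which is `T_j`-fixed mod `Z^j` is in `N(B)`;
* `u1`, `u2`, `nX`, `nY`.
-/

set_option autoImplicit false
set_option linter.unusedSectionVars false
set_option linter.unusedVariables false

namespace Cfsg.Agent.Omega.EK3.Q

open Subgroup Cfsg Cfsg.Agent.ZN.ChoiceBase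
open Cfsg.Agent.ZN (jj zj bau zc zl o2)
open Cfsg.Agent.ZN.ChoiceSit (Syl)
open Cfsg.Agent.Omega
open Cfsg.Agent.Omega.OM
open Cfsg.Agent.Omega.NO3S.EThree.Frame
open Cfsg.Agent.Omega.Node.MultiOf
open Cfsg.Agent.Omega.EK3.Two (Zs Z_le_Zs)
open Cfsg.Agent.MinSimple.MinParabolic (IsMinPar)
open scoped Pointwise

universe u

variable {G : Type u} [Group G] {k : ℕ}

/-- the elements which centralise `Z` and `W / Z` -/
def TrW (W Z : Subgroup G) : Subgroup G where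
  carrier := {x | (∀ z ∈ Z, x * z = z * x) ∧ ∀ w ∈ W, x * w * x⁻¹ * w⁻¹ ∈ Z}
  one_mem' := ⟨fun z _ => by simp, fun w _ => by simp⟩
  mul_mem' := by
    rintro a b ⟨ha, ha'⟩ ⟨hb, hb'⟩
    refine ⟨fun z hz => by rw [mul_assoc, hb z hz, ← mul_assoc, ha z hz, mul_assoc], fun w hw => ?_⟩
    have e : a * b * w * (a * b)⁻¹ * w⁻¹ = a * (b * w * b⁻¹ * w⁻¹) * w * a⁻¹ * w⁻¹ := by group
    rw [e, ha _ (hb' w hw)]
    have e2 : b * w * b⁻¹ * w⁻¹ * a * w * a⁻¹ * w⁻¹ = (b * w * b⁻¹ * w⁻¹) * (a * w * a⁻¹ * w⁻¹) := by group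
    rw [e2]
    exact mul_mem (hb' w hw) (ha' w hw)
  inv_mem' := by
    rintro a ⟨ha, ha'⟩
    have hi : ∀ z ∈ Z, a⁻¹ * z = z * a⁻¹ := fun z hz => by
      rw [inv_mul_eq_iff_eq_mul, ← mul_assoc, ha z hz, mul_inv_cancel_right]
    refine ⟨hi, fun w hw => ?_⟩
    have e : a⁻¹ * w * a⁻¹⁻¹ * w⁻¹ = a⁻¹ * (a * w * a⁻¹ * w⁻¹)⁻¹ * a := by group
    rw [e, hi _ (inv_mem (ha' w hw)), inv_mul_cancel_right]
    exact inv_mem (ha' w hw)

theorem mem_TrW {W Z : Subgroup G} {x : G} :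
    x ∈ TrW W Z ↔ (∀ z ∈ Z, x * z = z * x) ∧ ∀ w ∈ W, x * w * x⁻¹ * w⁻¹ ∈ Z := Iff.rfl

theorem cj_TrW_le {W Z : Subgroup G} {r : G} (hW : r ∈ normalizer (W : Set G)) (hZ : r ∈ normalizer (Z : Set G)) :
    cj r (TrW W Z) ≤ TrW W Z := by
  rintro _ ⟨x, ⟨hx, hx'⟩, rfl⟩
  show r * x * r⁻¹ ∈ TrW W Z
  refine ⟨fun z hz => ?_, fun w hw => ?_⟩
  · have h1 := hx _ ((mem_normalizer_iff''.1 hZ z).1 hz)
    calc r * x * r⁻¹ * z = r * (x * (r⁻¹ * z * r)) * r⁻¹ := by group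
      _ = r * (r⁻¹ * z * r * x) * r⁻¹ := by rw [h1]
      _ = z * (r * x * r⁻¹) := by group
  · have h1 := hx' _ ((mem_normalizer_iff''.1 hW w).1 hw)
    have h2 := (mem_normalizer_iff.1 hZ _).1 h1
    have e : r * (x * (r⁻¹ * w * r) * x⁻¹ * (r⁻¹ * w * r)⁻¹) * r⁻¹ = r * x * r⁻¹ * w * (r * x * r⁻¹)⁻¹ * w⁻¹ := by group
    rwa [e] at h2

namespace FrQ

variable [Finite G] {S : Sylow 2 G} {P K B ZJ : Subgroup G} {L W Z C : Fin k → Subgroup G} {q : ℕ}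
  (h : FrQ S P K B ZJ L W Z C q)
include h

theorem Zs_le_ZJ (j : Fin k) : Zs Z j ≤ ZJ := iSup_le fun l => h.bg.fr.Z_le l

omit h in
theorem YQ_Zs {j : Fin k} {c z : G} (hc : c ∈ YQ Z j) (hz : z ∈ Zs Z j) : c * z = z * c := by
  have h1 : c ∈ centralizer ((Zs Z j : Subgroup G) : Set G) := by
    rw [YQ_eq_cent] at hc
    exact hc
  exact (mem_centralizer_iff.1 h1 z hz).symm

theorem W_comm_Zs {i j : Fin k} {w z : G} (hw : w ∈ W i) (hz : z ∈ Zs Z j) : w * z = z * w :=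
  h.bg.fr.Vc (h.bg.fr.WV i hw) (h.bg.fr.ZJV (h.Zs_le_ZJ j hz))

/-- elements of `W i ⊔ Zs Z j` -/
theorem mem_WZ {i j : Fin k} {x : G} (hx : x ∈ W i ⊔ Zs Z j) : ∃ w ∈ W i, ∃ z ∈ Zs Z j, x = w * z :=
  SQ1.Bau.mem_sup_comm (fun _ ha _ hb => h.W_comm_Zs ha hb) hx

/-- triviality on `W i / Z i` and on `W i Z^j / Z^j` -/
theorem comm_sup {i j : Fin k} (hij : i ≠ j) {p w : G} (hp : p ∈ YQ Z j)
    (hpw : ∀ w ∈ W i, p * w * p⁻¹ * w⁻¹ ∈ Z i) (hw : w ∈ W i ⊔ Zs Z j) : p * w * p⁻¹ * w⁻¹ ∈ Zs Z j := by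
  obtain ⟨w, hw', z, hz, rfl⟩ := h.mem_WZ hw
  have e : p * (w * z) * p⁻¹ * (w * z)⁻¹ = p * w * (z * p⁻¹) * z⁻¹ * w⁻¹ := by group
  have h1 : z * p⁻¹ = p⁻¹ * z := by
    have := YQ_Zs (inv_mem hp) hz
    exact this.symm
  have e2 : p * w * (p⁻¹ * z) * z⁻¹ * w⁻¹ = p * w * p⁻¹ * w⁻¹ := by group
  rw [e, h1, e2]
  exact Z_le_Zs hij (hpw w hw')

/-- `R ∈ P(Y_j, T_j)`, `R ≤ N(B)` : `R` is trivial on `W i / Z i`. -/
theorem comm_norm {i j : Fin k} (hij : i ≠ j) {R : Subgroup G} (hR : IsMinPar (TY S Z j) R) (hRY : R ≤ YQ Z j)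
    (hRB : R ≤ normalizer (B : Set G)) : ∀ r ∈ R, ∀ w ∈ W i, r * w * r⁻¹ * w⁻¹ ∈ Z i := by
  have h1 : R ≤ TrW (W i) (Z i) := by
    refine (HU.gen_cj hR (h.syl_of hR.le hRY)).trans (iSup_le fun r => ?_)
    have h2 := h.fixB (hRB r.2) (hRY r.2) i
    refine (cj_mono (r : G) ?_).trans
      (cj_TrW_le (mem_normalizer_iff_cj.2 h2.1) (mem_normalizer_iff_cj.2 h2.2))
    exact fun t ht => ⟨fun z hz => mem_YQ.1 ht.2 i hij z hz, fun w hw => h.TY_com hij ht hw⟩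
  exact fun r hr => (h1 hr).2

/-- the elements of `Y_j` which fix `m` mod `Z^j` -/
theorem norm_of_mv {j : Fin k} {R : Subgroup G} (hR : IsMinPar (TY S Z j) R) (hRY : R ≤ YQ Z j)
    (hZ : R ≤ normalizer (Z j : Set G)) {m : G} (hm : m ∈ ZJ)
    (hT : ∀ t ∈ TY S Z j, t * m * t⁻¹ * m⁻¹ ∈ Zs Z j) (hmv : ∃ p ∈ R, p * m * p⁻¹ * m⁻¹ ∉ Zs Z j) :
    R ≤ normalizer (B : Set G) := by
  have h1 : TY S Z j ⊓ centralizer (Z j : Set G) = B := by
    refine h.sylD.2.2 _ ?_ ((h.T_two j).to_le inf_le_left) (le_inf (h.B_le_T j) (h.B_le_D.trans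
      (centralizer_le (h.bg.fr.Z_le j))))
    rw [← h.stab j]
    exact inf_le_inf_right _ (h.syl j).1
  rw [← h1]
  refine HU.norm_inf hR (h.syl_of hR.le hRY) (hZ.trans (centralizer_norm _)) fun hle => ?_
  obtain ⟨p, hp, hpm⟩ := hmv
  apply hpm
  have hTn : TY S Z j ≤ normalizer ((R ⊓ centralizer (Z j : Set G) : Subgroup G) : Set G) := fun t ht => by
    rw [mem_normalizer_iff_cj, cj_inf, cj_eq_of_mem_normalizer (Subgroup.le_normalizer (hR.le ht)),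
      cj_centralizer, cj_eq_of_mem_normalizer (hZ (hR.le ht))]
  have h2 : p ∈ TY S Z j ⊔ (R ⊓ centralizer (Z j : Set G)) := by rw [sup_comm]; exact hle hp
  have h3 : p ∈ ((TY S Z j : Set G) * ((R ⊓ centralizer (Z j : Set G) : Subgroup G) : Set G)) := by
    rw [← Subgroup.coe_mul_of_left_le_normalizer_right _ _ hTn]
    exact h2
  obtain ⟨t, ht, c, hc, rfl⟩ := Set.mem_mul.1 h3
  have hcD : c ∈ centralizer (ZJ : Set G) := by
    rw [← h.stab j]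
    exact ⟨hRY hc.1, hc.2⟩
  have hcm : c * m * c⁻¹ = m := by
    rw [← mem_centralizer_iff.1 hcD m hm]
    group
  have e : t * c * m * (t * c)⁻¹ * m⁻¹ = t * (c * m * c⁻¹) * t⁻¹ * m⁻¹ := by group
  rw [e, hcm]
  exact hT t ht

/-- the situation of hU -/
theorem si {j : Fin k} {R : Subgroup G} (hR : IsMinPar (TY S Z j) R) (hRY : R ≤ YQ Z j)
    (hZ : ¬ R ≤ normalizer (Z j : Set G)) : HUMul.Si B Z j (TY S Z j) R :=
  ⟨hR, h.syl_of hR.le hRY, h.B_le_T j, fun l hl => hRY.trans (YQ_cent hl), hZ⟩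

/-- **hU** -/
theorem hU {i j : Fin k} (hij : i ≠ j) {R : Subgroup G} (hR : IsMinPar (TY S Z j) R) (hRY : R ≤ YQ Z j)
    (hZ : ¬ R ≤ normalizer (Z j : Set G)) : ∀ r ∈ R, ∀ w ∈ W i, r * w * r⁻¹ * w⁻¹ ∈ Z i := by
  rcases h.par hR hRY with h1 | ⟨h1, -⟩
  · exact absurd h1 hZ
  · exact (HUMul.hU h.mul (le_trans (by norm_num) h.three) (h.si hR hRY hZ) h1 (Or.inl h.three)).1 i hij

/-- **(U1)** -/
theorem u1 {i j : Fin k} (hij : i ≠ j) {R : Subgroup G} (hR : IsMinPar (TY S Z j) R) (hRY : R ≤ YQ Z j)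
    {m : G} (hm : m ∈ ZJ) (hT : ∀ t ∈ TY S Z j, t * m * t⁻¹ * m⁻¹ ∈ Zs Z j)
    (hmv : ∃ p ∈ R, p * m * p⁻¹ * m⁻¹ ∉ Zs Z j) :
    ∀ p ∈ R, ∀ w ∈ W i ⊔ Zs Z j, p * w * p⁻¹ * w⁻¹ ∈ Zs Z j := by
  intro p hp w hw
  refine h.comm_sup hij (hRY hp) ?_ hw
  by_cases hZ : R ≤ normalizer (Z j : Set G)
  · exact h.comm_norm hij hR hRY (h.norm_of_mv hR hRY hZ hm hT hmv) p hp
  · exact h.hU hij hR hRY hZ p hp

/-- **(U2)** -/
theorem u2 {i j : Fin k} (hij : i ≠ j) {R : Subgroup G} (hR : IsMinPar (TY S Z j) R) (hRY : R ≤ YQ Z j)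
    (hn : ¬ R ≤ normalizer (ZJ : Set G)) :
    (∀ p ∈ R, ∀ w ∈ W i ⊔ Zs Z j, p * w * p⁻¹ * w⁻¹ ∈ Zs Z j) ∧
      R ≤ normalizer ((W j ⊔ Zs Z j : Subgroup G) : Set G) ∧
      ∀ v ∈ W j ⊔ Zs Z j, ∀ w ∈ W j ⊔ Zs Z j, v ∉ Zs Z j → w ∉ Zs Z j →
        ∃ p ∈ R, p * v * p⁻¹ * w⁻¹ ∈ Zs Z j := by
  have hZ : ¬ R ≤ normalizer (Z j : Set G) := fun hle => hn fun r hr => h.norm_ZJ' (hRY hr) (hle hr)
  rcases h.par hR hRY with h1 | ⟨h1, h2, -⟩
  · exact absurd h1 hZ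
  refine ⟨fun p hp w hw => h.comm_sup hij (hRY hp) (h.hU hij hR hRY hZ p hp) hw, ?_, ?_⟩
  · intro r hr
    rw [mem_normalizer_iff_cj]
    have h3 : cj r (Zs Z j) = Zs Z j := by
      refine mem_normalizer_iff_cj.1 (centralizer_le_normalizer _ (mem_centralizer_iff.2 fun z hz => ?_))
      exact (YQ_Zs (hRY hr) hz).symm
    have h4 : cj r (W j ⊔ Zs Z j) = cj r (W j) ⊔ cj r (Zs Z j) := Subgroup.map_sup _ _ _
    rw [h4, h3, mem_normalizer_iff_cj.1 (h1 hr)]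
  · intro v hv w hw hvZ hwZ
    obtain ⟨v, hv', z, hz, rfl⟩ := h.mem_WZ hv
    obtain ⟨w, hw', z', hz', rfl⟩ := h.mem_WZ hw
    have hv1 : v ≠ 1 := by
      rintro rfl
      exact hvZ (by rw [one_mul]; exact hz)
    have hw1 : w ≠ 1 := by
      rintro rfl
      exact hwZ (by rw [one_mul]; exact hz')
    obtain ⟨p, hp, e⟩ := h2 v hv' w hw' hv1 hw1
    refine ⟨p, hp, ?_⟩
    have h3 : z * p⁻¹ = p⁻¹ * z := (YQ_Zs (inv_mem (hRY hp)) hz).symm
    have h4 : w * (z * z'⁻¹) = (z * z'⁻¹) * w := h.W_comm_Zs hw' (mul_mem hz (inv_mem hz'))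
    have e1 : p * (v * z) * p⁻¹ * (w * z')⁻¹ = z * z'⁻¹ := by
      calc p * (v * z) * p⁻¹ * (w * z')⁻¹ = p * v * (z * p⁻¹) * z'⁻¹ * w⁻¹ := by group
        _ = (p * v * p⁻¹) * (z * z'⁻¹) * w⁻¹ := by rw [h3]; group
        _ = z * z'⁻¹ := by rw [e, h4]; group
    rw [e1]
    exact mul_mem hz (inv_mem hz')

theorem nX (j : Fin k) : YQ Z j ⊓ normalizer (TY S Z j : Set G) ≤ normalizer (ZJ : Set G) :=
  (h.norm_T_le j).trans h.bg.norm_ZJ

theorem nY (i j : Fin k) : YQ Z j ⊓ normalizer (TY S Z j : Set G) ≤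
    normalizer ((W i ⊔ Zs Z j : Subgroup G) : Set G) := by
  intro n hn
  rw [mem_normalizer_iff_cj]
  have h3 : cj n (Zs Z j) = Zs Z j := by
    refine mem_normalizer_iff_cj.1 (centralizer_le_normalizer _ (mem_centralizer_iff.2 fun z hz => ?_))
    exact (YQ_Zs hn.1 hz).symm
  have h4 : cj n (W i ⊔ Zs Z j) = cj n (W i) ⊔ cj n (Zs Z j) := Subgroup.map_sup _ _ _
  rw [h4, h3, (h.fixB (h.norm_T_le j hn) hn.1 i).1]

end FrQ

end Cfsg.Agent.Omega.EK3.Q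

end

section


/-!
# (E), `k ≥ 3`, `q ≥ 4`: the minimal parabolics over `T_j` on `Y = V_i Z^j / Z^j` and `X = Z_J / Z^j` (bb #24417)

`Zs Z j = ⨆ l ≠ j, Z l`; `h : FrG ..`, `i ≠ j`:

* `comm_norm` : `R ∈ P(Y_j, T_j)`, `R ≤ N(B)` : `R` is trivial on `W i / Z i`;
* `norm_of_mv` : `R ≤ N(Z_j)` moving some `m ∈ Z_J` which is `T_j`-fixed mod `Z^j` is in `N(B)`;
* `u1`, `u2`, `nX`, `nY`.
-/

set_option autoImplicit false
set_option linter.unusedSectionVars false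
set_option linter.unusedVariables false

namespace Cfsg.Agent.Omega.EK3.QG

open Subgroup Cfsg Cfsg.Agent.ZN.ChoiceBase
open Cfsg.Agent.ZN (jj zj bau zc zl o2)
open Cfsg.Agent.ZN.ChoiceSit (Syl)
open Cfsg.Agent.Omega
open Cfsg.Agent.Omega.OM
open Cfsg.Agent.Omega.NO3S.EThree.Frame
open Cfsg.Agent.Omega.Node.MultiOf
open Cfsg.Agent.Omega.Node.MulG
open Cfsg.Agent.Omega.EK3.Q (YQ CQ NQ TY mem_YQ mem_CQ CQ_comm YQ_le_left YQ_le_right YQ_cent CQ_cent YQ_eq_cent CQ_eq_cent centralizer_norm TrW mem_TrW cj_TrW_le)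
open Cfsg.Agent.Omega.EK3.Two (Zs Z_le_Zs)
open Cfsg.Agent.MinSimple.MinParabolic (IsMinPar)
open scoped Pointwise

universe u

variable {G : Type u} [Group G] {k : ℕ}

namespace FrG

variable [Finite G] {S : Sylow 2 G} {P K B ZJ : Subgroup G} {L W Z C : Fin k → Subgroup G} {q : ℕ}
  (h : FrG S P K B ZJ L W Z C q)
include h

theorem Zs_le_ZJ (j : Fin k) : Zs Z j ≤ ZJ := iSup_le fun l => h.bg.fr.Z_le l

omit h in
theorem YQ_Zs {j : Fin k} {c z : G} (hc : c ∈ YQ Z j) (hz : z ∈ Zs Z j) : c * z = z * c := by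
  have h1 : c ∈ centralizer ((Zs Z j : Subgroup G) : Set G) := by
    rw [YQ_eq_cent] at hc
    exact hc
  exact (mem_centralizer_iff.1 h1 z hz).symm

theorem W_comm_Zs {i j : Fin k} {w z : G} (hw : w ∈ W i) (hz : z ∈ Zs Z j) : w * z = z * w :=
  h.bg.fr.Vc (h.bg.fr.WV i hw) (h.bg.fr.ZJV (h.Zs_le_ZJ j hz))

/-- elements of `W i ⊔ Zs Z j` -/
theorem mem_WZ {i j : Fin k} {x : G} (hx : x ∈ W i ⊔ Zs Z j) : ∃ w ∈ W i, ∃ z ∈ Zs Z j, x = w * z :=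
  SQ1.Bau.mem_sup_comm (fun _ ha _ hb => h.W_comm_Zs ha hb) hx

/-- triviality on `W i / Z i` and on `W i Z^j / Z^j` -/
theorem comm_sup {i j : Fin k} (hij : i ≠ j) {p w : G} (hp : p ∈ YQ Z j)
    (hpw : ∀ w ∈ W i, p * w * p⁻¹ * w⁻¹ ∈ Z i) (hw : w ∈ W i ⊔ Zs Z j) : p * w * p⁻¹ * w⁻¹ ∈ Zs Z j := by
  obtain ⟨w, hw', z, hz, rfl⟩ := h.mem_WZ hw
  have e : p * (w * z) * p⁻¹ * (w * z)⁻¹ = p * w * (z * p⁻¹) * z⁻¹ * w⁻¹ := by group
  have h1 : z * p⁻¹ = p⁻¹ * z := by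
    have := YQ_Zs (inv_mem hp) hz
    exact this.symm
  have e2 : p * w * (p⁻¹ * z) * z⁻¹ * w⁻¹ = p * w * p⁻¹ * w⁻¹ := by group
  rw [e, h1, e2]
  exact Z_le_Zs hij (hpw w hw')

/-- `R ∈ P(Y_j, T_j)`, `R ≤ N(B)` : `R` is trivial on `W i / Z i`. -/
theorem comm_norm {i j : Fin k} (hij : i ≠ j) {R : Subgroup G} (hR : IsMinPar (TY S Z j) R) (hRY : R ≤ YQ Z j)
    (hRB : R ≤ normalizer (B : Set G)) : ∀ r ∈ R, ∀ w ∈ W i, r * w * r⁻¹ * w⁻¹ ∈ Z i := by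
  have h1 : R ≤ TrW (W i) (Z i) := by
    refine (HU.gen_cj hR (h.syl_of hR.le hRY)).trans (iSup_le fun r => ?_)
    have h2 := h.fixB (hRB r.2) (hRY r.2) i
    refine (cj_mono (r : G) ?_).trans
      (cj_TrW_le (mem_normalizer_iff_cj.2 h2.1) (mem_normalizer_iff_cj.2 h2.2))
    exact fun t ht => ⟨fun z hz => mem_YQ.1 ht.2 i hij z hz, fun w hw => h.TY_com hij ht hw⟩
  exact fun r hr => (h1 hr).2

/-- the elements of `Y_j` which fix `m` mod `Z^j` -/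
theorem norm_of_mv {j : Fin k} {R : Subgroup G} (hR : IsMinPar (TY S Z j) R) (hRY : R ≤ YQ Z j)
    (hZ : R ≤ normalizer (Z j : Set G)) {m : G} (hm : m ∈ ZJ)
    (hT : ∀ t ∈ TY S Z j, t * m * t⁻¹ * m⁻¹ ∈ Zs Z j) (hmv : ∃ p ∈ R, p * m * p⁻¹ * m⁻¹ ∉ Zs Z j) :
    R ≤ normalizer (B : Set G) := by
  have h1 : TY S Z j ⊓ centralizer (Z j : Set G) = B := by
    refine h.sylD.2.2 _ ?_ ((h.T_two j).to_le inf_le_left) (le_inf (h.B_le_T j) (h.B_le_D.trans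
      (centralizer_le (h.bg.fr.Z_le j))))
    rw [← h.stab j]
    exact inf_le_inf_right _ (h.syl j).1
  rw [← h1]
  refine HU.norm_inf hR (h.syl_of hR.le hRY) (hZ.trans (centralizer_norm _)) fun hle => ?_
  obtain ⟨p, hp, hpm⟩ := hmv
  apply hpm
  have hTn : TY S Z j ≤ normalizer ((R ⊓ centralizer (Z j : Set G) : Subgroup G) : Set G) := fun t ht => by
    rw [mem_normalizer_iff_cj, cj_inf, cj_eq_of_mem_normalizer (Subgroup.le_normalizer (hR.le ht)),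
      cj_centralizer, cj_eq_of_mem_normalizer (hZ (hR.le ht))]
  have h2 : p ∈ TY S Z j ⊔ (R ⊓ centralizer (Z j : Set G)) := by rw [sup_comm]; exact hle hp
  have h3 : p ∈ ((TY S Z j : Set G) * ((R ⊓ centralizer (Z j : Set G) : Subgroup G) : Set G)) := by
    rw [← Subgroup.coe_mul_of_left_le_normalizer_right _ _ hTn]
    exact h2
  obtain ⟨t, ht, c, hc, rfl⟩ := Set.mem_mul.1 h3
  have hcD : c ∈ centralizer (ZJ : Set G) := by
    rw [← h.stab j]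
    exact ⟨hRY hc.1, hc.2⟩
  have hcm : c * m * c⁻¹ = m := by
    rw [← mem_centralizer_iff.1 hcD m hm]
    group
  have e : t * c * m * (t * c)⁻¹ * m⁻¹ = t * (c * m * c⁻¹) * t⁻¹ * m⁻¹ := by group
  rw [e, hcm]
  exact hT t ht

/-- the situation of hU -/
theorem si {j : Fin k} {R : Subgroup G} (hR : IsMinPar (TY S Z j) R) (hRY : R ≤ YQ Z j)
    (hZ : ¬ R ≤ normalizer (Z j : Set G)) : HUMulG.Si B Z j (TY S Z j) R :=
  ⟨hR, h.syl_of hR.le hRY, h.B_le_T j, fun l hl => hRY.trans (YQ_cent hl), hZ⟩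

/-- **hU** -/
theorem hU {i j : Fin k} (hij : i ≠ j) {R : Subgroup G} (hR : IsMinPar (TY S Z j) R) (hRY : R ≤ YQ Z j)
    (hZ : ¬ R ≤ normalizer (Z j : Set G)) : ∀ r ∈ R, ∀ w ∈ W i, r * w * r⁻¹ * w⁻¹ ∈ Z i := by
  rcases h.par hR hRY with h1 | ⟨h1, -⟩
  · exact absurd h1 hZ
  · exact (HUMulG.hU h.mul (le_trans (by norm_num) h.three) (h.si hR hRY hZ) h1 (Or.inl h.three)).1 i hij

/-- **(U1)** -/
theorem u1 {i j : Fin k} (hij : i ≠ j) {R : Subgroup G} (hR : IsMinPar (TY S Z j) R) (hRY : R ≤ YQ Z j)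
    {m : G} (hm : m ∈ ZJ) (hT : ∀ t ∈ TY S Z j, t * m * t⁻¹ * m⁻¹ ∈ Zs Z j)
    (hmv : ∃ p ∈ R, p * m * p⁻¹ * m⁻¹ ∉ Zs Z j) :
    ∀ p ∈ R, ∀ w ∈ W i ⊔ Zs Z j, p * w * p⁻¹ * w⁻¹ ∈ Zs Z j := by
  intro p hp w hw
  refine h.comm_sup hij (hRY hp) ?_ hw
  by_cases hZ : R ≤ normalizer (Z j : Set G)
  · exact h.comm_norm hij hR hRY (h.norm_of_mv hR hRY hZ hm hT hmv) p hp
  · exact h.hU hij hR hRY hZ p hp

/-- **(U2)** -/
theorem u2 {i j : Fin k} (hij : i ≠ j) {R : Subgroup G} (hR : IsMinPar (TY S Z j) R) (hRY : R ≤ YQ Z j)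
    (hn : ¬ R ≤ normalizer (ZJ : Set G)) :
    (∀ p ∈ R, ∀ w ∈ W i ⊔ Zs Z j, p * w * p⁻¹ * w⁻¹ ∈ Zs Z j) ∧
      R ≤ normalizer ((W j ⊔ Zs Z j : Subgroup G) : Set G) ∧
      ∀ v ∈ W j ⊔ Zs Z j, ∀ w ∈ W j ⊔ Zs Z j, v ∉ Zs Z j → w ∉ Zs Z j →
        ∃ p ∈ R, p * v * p⁻¹ * w⁻¹ ∈ Zs Z j := by
  have hZ : ¬ R ≤ normalizer (Z j : Set G) := fun hle => hn fun r hr => h.norm_ZJ' (hRY hr) (hle hr)
  rcases h.par hR hRY with h1 | ⟨h1, h2, -⟩
  · exact absurd h1 hZ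
  refine ⟨fun p hp w hw => h.comm_sup hij (hRY hp) (h.hU hij hR hRY hZ p hp) hw, ?_, ?_⟩
  · intro r hr
    rw [mem_normalizer_iff_cj]
    have h3 : cj r (Zs Z j) = Zs Z j := by
      refine mem_normalizer_iff_cj.1 (centralizer_le_normalizer _ (mem_centralizer_iff.2 fun z hz => ?_))
      exact (YQ_Zs (hRY hr) hz).symm
    have h4 : cj r (W j ⊔ Zs Z j) = cj r (W j) ⊔ cj r (Zs Z j) := Subgroup.map_sup _ _ _
    rw [h4, h3, mem_normalizer_iff_cj.1 (h1 hr)]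
  · intro v hv w hw hvZ hwZ
    obtain ⟨v, hv', z, hz, rfl⟩ := h.mem_WZ hv
    obtain ⟨w, hw', z', hz', rfl⟩ := h.mem_WZ hw
    have hv1 : v ≠ 1 := by
      rintro rfl
      exact hvZ (by rw [one_mul]; exact hz)
    have hw1 : w ≠ 1 := by
      rintro rfl
      exact hwZ (by rw [one_mul]; exact hz')
    obtain ⟨p, hp, e⟩ := h2 v hv' w hw' hv1 hw1
    refine ⟨p, hp, ?_⟩
    have h3 : z * p⁻¹ = p⁻¹ * z := (YQ_Zs (inv_mem (hRY hp)) hz).symm
    have h4 : w * (z * z'⁻¹) = (z * z'⁻¹) * w := h.W_comm_Zs hw' (mul_mem hz (inv_mem hz'))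
    have e1 : p * (v * z) * p⁻¹ * (w * z')⁻¹ = z * z'⁻¹ := by
      calc p * (v * z) * p⁻¹ * (w * z')⁻¹ = p * v * (z * p⁻¹) * z'⁻¹ * w⁻¹ := by group
        _ = (p * v * p⁻¹) * (z * z'⁻¹) * w⁻¹ := by rw [h3]; group
        _ = z * z'⁻¹ := by rw [e, h4]; group
    rw [e1]
    exact mul_mem hz (inv_mem hz')

theorem nX (j : Fin k) : YQ Z j ⊓ normalizer (TY S Z j : Set G) ≤ normalizer (ZJ : Set G) :=
  (h.norm_T_le j).trans h.bg.norm_ZJ

theorem nY (i j : Fin k) : YQ Z j ⊓ normalizer (TY S Z j : Set G) ≤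
    normalizer ((W i ⊔ Zs Z j : Subgroup G) : Set G) := by
  intro n hn
  rw [mem_normalizer_iff_cj]
  have h3 : cj n (Zs Z j) = Zs Z j := by
    refine mem_normalizer_iff_cj.1 (centralizer_le_normalizer _ (mem_centralizer_iff.2 fun z hz => ?_))
    exact (YQ_Zs hn.1 hz).symm
  have h4 : cj n (W i ⊔ Zs Z j) = cj n (W i) ⊔ cj n (Zs Z j) := Subgroup.map_sup _ _ _
  rw [h4, h3, (h.fixB (h.norm_T_le j hn) hn.1 i).1]

end FrG

end Cfsg.Agent.Omega.EK3.QG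

end

end
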